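import Groth.Agent.HopfQuot.Invariants
import Groth.Agent.CohDer1.TrigSep.Back
import Mathlib.RingTheory.Bialgebra.MonoidAlgebra
import Mathlib.LinearAlgebra.TensorProduct.Basis

/-! Diagonalisable normal subgroups with connected quotient are central. -/

set_option autoImplicit false
set_option linter.style.haveILetI false
set_option linter.unusedSectionVars false
set_option maxHeartbeats 800000
set_option backward.isDefEq.respectTransparency.types false
universe u

open TensorProduct WithConv
open Groth.Agent.HopfQuot Groth.Agent.HopfLib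

noncomputable section

namespace Groth.Agent.MultByUnip26

/-- The data of an extension of a connected group by a diagonalisable group. -/
structure Data (k : Type u) [Field k] (A C : Type u) [CommRing A] [HopfAlgebra k A] [CommRing C] [HopfAlgebra k C]
    (M : Type u) [CommGroup M] where
  /-- The projection. -/
  ψ : C →ₐc[k] A
  inj : Function.Injective ψ
  /-- The inclusion of the kernel. -/
  q : A →ₐc[k] MonoidAlgebra k M
  surj : Function.Surjective q
  ker : RingHom.ker (q : A →+* MonoidAlgebra k M) =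
    Ideal.map (ψ : C →+* A) (RingHom.ker (Bialgebra.counitAlgHom k C))
  conn : ∀ e : C, IsIdempotentElem e → e = 0 ∨ e = 1

variable {k : Type u} [Field k] {A C : Type u} [CommRing A] [HopfAlgebra k A] [CommRing C] [HopfAlgebra k C]
  {M : Type u} [CommGroup M]

/-- The functional extracting a coefficient. -/
def coord (x : M) : MonoidAlgebra k M →ₗ[k] k where
  toFun z := z.coeff x
  map_add' a b := by simp
  map_smul' c a := by simp

theorem coord_single (x m : M) (r : k) [Decidable (m = x)] :
    coord x (MonoidAlgebra.single m r) = if m = x then r else 0 := by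
  classical
  show (MonoidAlgebra.single m r).coeff x = _
  rw [MonoidAlgebra.coeff_single, Finsupp.single_apply]

theorem ext_coord {X : Type*} [AddCommGroup X] [Module k X] {s t : X ⊗[k] MonoidAlgebra k M}
    (h : ∀ x, sliceR (coord x) s = sliceR (coord x) t) : s = t := by
  classical
  let b := MonoidAlgebra.basis M k
  apply (TensorProduct.equivFinsuppOfBasisRight b).injective
  refine Finsupp.ext fun x => ?_
  have e : ∀ z : X ⊗[k] MonoidAlgebra k M, TensorProduct.equivFinsuppOfBasisRight b z x = sliceR (coord x) z := by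
    intro z
    induction z using TensorProduct.induction_on with
    | zero => simp
    | add p q hp hq => simp [map_add, hp, hq]
    | tmul p q =>
      simp [b, coord]
      rfl
  rw [e, e, h]

theorem single_eq_smul (m : M) (r : k) : MonoidAlgebra.single m r = r • MonoidAlgebra.single m (1 : k) := by
  rw [MonoidAlgebra.smul_single, smul_eq_mul, mul_one]

theorem comul_single_one (m : M) : CoalgebraStruct.comul (R := k) (MonoidAlgebra.single m (1 : k)) =
    MonoidAlgebra.single m (1 : k) ⊗ₜ[k] MonoidAlgebra.single m (1 : k) := by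
  simp [MonoidAlgebra.comul_single]

theorem comm_apply_comul (z : MonoidAlgebra k M) :
    TensorProduct.comm k _ _ (CoalgebraStruct.comul (R := k) z) = CoalgebraStruct.comul (R := k) z := by
  induction z using MonoidAlgebra.induction_linear with
  | zero => simp
  | add a b ha hb => simp only [map_add, ha, hb]
  | single m r =>
    rw [single_eq_smul m r, map_smul, map_smul]
    simp [MonoidAlgebra.comul_single]

theorem mul_factor_apply (q : A →ₐc[k] MonoidAlgebra k M) {R : Type u} [CommRing R] [Algebra k R]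
    (f g : MonoidAlgebra k M →ₐ[k] R) (a : A) :
    ((toConv (f.comp (q : A →ₐ[k] MonoidAlgebra k M)) : Pt k A R) *
      toConv (g.comp (q : A →ₐ[k] MonoidAlgebra k M))).ofConv a =
      Algebra.TensorProduct.lift f g (fun _ _ => .all ..) (CoalgebraStruct.comul (R := k) (q a)) := by
  rw [mul_apply, ← CoalgHomClass.map_comp_comul_apply q a, ofConv_toConv, ofConv_toConv]
  induction CoalgebraStruct.comul (R := k) a using TensorProduct.induction_on with
  | zero => simp
  | add x y hx hy => simp only [map_add, hx, hy]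
  | tmul x y => simp

theorem push_toConv {R R' : Type u} [CommRing R] [Algebra k R] [CommRing R'] [Algebra k R'] (j : R →ₐ[k] R')
    {X : Type u} [CommRing X] [Algebra k X] (f : X →ₐ[k] R) (g : A →ₐ[k] X) :
    push j (toConv (f.comp g) : Pt k A R) = toConv ((j.comp f).comp g) := rfl

/-- Points through the diagonalisable group commute. -/
theorem comm_of_factor (q : A →ₐc[k] MonoidAlgebra k M) {R : Type u} [CommRing R] [Algebra k R]
    (f g : MonoidAlgebra k M →ₐ[k] R) :
    (toConv (f.comp (q : A →ₐ[k] MonoidAlgebra k M)) : Pt k A R) * toConv (g.comp (q : A →ₐ[k] MonoidAlgebra k M)) =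
      toConv (g.comp (q : A →ₐ[k] MonoidAlgebra k M)) * toConv (f.comp (q : A →ₐ[k] MonoidAlgebra k M)) := by
  refine WithConv.ext (AlgHom.ext fun a => ?_)
  rw [mul_apply, mul_apply]
  have h : ∀ (f g : MonoidAlgebra k M →ₐ[k] R),
      Algebra.TensorProduct.lift (f.comp (q : A →ₐ[k] MonoidAlgebra k M)) (g.comp (q : A →ₐ[k] MonoidAlgebra k M))
        (fun _ _ => .all ..) (CoalgebraStruct.comul (R := k) a) =
      Algebra.TensorProduct.lift f g (fun _ _ => .all ..) (CoalgebraStruct.comul (R := k) (q a)) := by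
    intro f g
    rw [← CoalgHomClass.map_comp_comul_apply q a]
    induction CoalgebraStruct.comul (R := k) a using TensorProduct.induction_on with
    | zero => simp
    | add x y hx hy => simp only [map_add, hx, hy]
    | tmul x y => simp
  rw [ofConv_toConv, ofConv_toConv, h, h]
  conv_rhs => rw [← comm_apply_comul]
  induction CoalgebraStruct.comul (R := k) (q a) using TensorProduct.induction_on with
  | zero => simp
  | add x y hx hy => simp only [map_add, hx, hy]
  | tmul x y => simp [mul_comm]

theorem slice_mul {R Q : Type u} [CommRing R] [Algebra k R] [CommRing Q] [Algebra k Q] (ω ω' : Q →ₗ[k] k)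
    (s s' : R ⊗[k] Q) :
    sliceR (LinearMap.mul' k k ∘ₗ TensorProduct.map ω ω')
        (Algebra.TensorProduct.map (AlgHom.id k R) (Algebra.TensorProduct.includeLeft : Q →ₐ[k] Q ⊗[k] Q) s *
          Algebra.TensorProduct.map (AlgHom.id k R) (Algebra.TensorProduct.includeRight : Q →ₐ[k] Q ⊗[k] Q) s') =
      sliceR ω s * sliceR ω' s' := by
  induction s using TensorProduct.induction_on with
  | zero => simp
  | add p q hp hq => simp only [map_add, add_mul, hp, hq]
  | tmul a z =>
    induction s' using TensorProduct.induction_on with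
    | zero => simp
    | add p q hp hq => simp only [map_add, mul_add, hp, hq]
    | tmul b w => simp [smul_smul, mul_comm]

theorem lift_push {R : Type u} [CommRing R] [Algebra k R] {Q : Type u} [CommRing Q] [Algebra k Q] (q : A →ₐ[k] Q)
    (f g : Q →ₐ[k] R) (t : A ⊗[k] A) :
    Algebra.TensorProduct.lift (f.comp q) (g.comp q) (fun _ _ => .all ..) t =
      Algebra.TensorProduct.lift f g (fun _ _ => .all ..) (TensorProduct.map q.toLinearMap q.toLinearMap t) := by
  induction t using TensorProduct.induction_on with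
  | zero => simp
  | add x y hx hy => simp only [map_add, hx, hy]
  | tmul x y => simp

namespace Data

variable (d : Data k A C M)

theorem kills_iff {R : Type u} [CommRing R] [Algebra k R] (h : Pt k A R) :
    (∀ c, h.ofConv (d.ψ c) = algebraMap k R (CoalgebraStruct.counit (R := k) c)) →
      ∃ φ : MonoidAlgebra k M →ₐ[k] R, h = toConv (φ.comp (d.q : A →ₐ[k] MonoidAlgebra k M)) := by
  intro hc
  let e : (A ⧸ RingHom.ker (d.q : A →ₐ[k] MonoidAlgebra k M)) ≃ₐ[k] MonoidAlgebra k M :=
    Ideal.quotientKerAlgEquivOfSurjective d.surj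
  let φ₀ : (A ⧸ RingHom.ker (d.q : A →ₐ[k] MonoidAlgebra k M)) →ₐ[k] R :=
    Ideal.Quotient.liftₐ _ h.ofConv fun a ha => by
      have hle : Ideal.map (d.ψ : C →+* A) (RingHom.ker (Bialgebra.counitAlgHom k C)) ≤ RingHom.ker h.ofConv.toRingHom := by
        rw [Ideal.map_le_iff_le_comap]
        intro c hc'
        show h.ofConv (d.ψ c) = 0
        rw [hc, show CoalgebraStruct.counit (R := k) c = 0 from hc', map_zero]
      exact hle (d.ker ▸ ha)
  refine ⟨φ₀.comp e.symm.toAlgHom, WithConv.ext (AlgHom.ext fun a => ?_)⟩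
  show h.ofConv a = φ₀ (e.symm (d.q a))
  have : e.symm (d.q a) = Ideal.Quotient.mk _ a := e.injective (by rw [AlgEquiv.apply_symm_apply]; rfl)
  rw [this]
  rfl

theorem q_ψ (c : C) : d.q (d.ψ c) = algebraMap k _ (CoalgebraStruct.counit (R := k) c) := by
  have h : d.ψ (c - algebraMap k C (CoalgebraStruct.counit (R := k) c)) ∈ RingHom.ker (d.q : A →+* MonoidAlgebra k M) := by
    rw [d.ker]
    exact Ideal.mem_map_of_mem _ (by simp [RingHom.mem_ker])
  have h' : d.q (d.ψ (c - algebraMap k C (CoalgebraStruct.counit (R := k) c))) = 0 := h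
  rw [map_sub, map_sub, sub_eq_zero] at h'
  rw [h', AlgHomClass.commutes, AlgHomClass.commutes]

/-- Right translation by the diagonalisable group. -/
def δ : A →ₐ[k] A ⊗[k] MonoidAlgebra k M :=
  (push Algebra.TensorProduct.includeLeft (idPt k A) *
    push Algebra.TensorProduct.includeRight (toConv (d.q : A →ₐ[k] MonoidAlgebra k M))).ofConv

theorem δ_eq (a : A) :
    d.δ a = LinearMap.lTensor A (d.q : A →ₐ[k] MonoidAlgebra k M).toLinearMap (CoalgebraStruct.comul (R := k) a) := by
  rw [δ, mul_apply]
  generalize CoalgebraStruct.comul (R := k) a = t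
  induction t using TensorProduct.induction_on with
  | zero => simp
  | add p q hp hq => simp only [map_add, hp, hq]
  | tmul p q => simp

theorem sliceR_δ (ω : MonoidAlgebra k M →ₗ[k] k) (a : A) :
    sliceR ω (d.δ a) = hit (V := A) (ω ∘ₗ (d.q : A →ₐ[k] MonoidAlgebra k M).toLinearMap) a := by
  rw [δ_eq, hit_regular]
  induction CoalgebraStruct.comul (R := k) a using TensorProduct.induction_on with
  | zero => simp
  | add x y hx hy => simp only [map_add, hx, hy]
  | tmul x y => simp

theorem mem_range_of_δ {a : A} (ha : d.δ a = a ⊗ₜ[k] 1) : a ∈ (d.ψ : C →ₐ[k] A).range := by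
  have hB := CohDer1.TrigSep.isHopfSubalgebra_range d.ψ
  have hI : SGA3.augIdealSpan k A (d.ψ : C →ₐ[k] A).range = RingHom.ker (d.q : A →+* MonoidAlgebra k M) := by
    rw [d.ker]
    refine congrArg Ideal.span (Set.ext fun x => ⟨?_, ?_⟩)
    · rintro ⟨⟨c, rfl⟩, hc⟩
      exact ⟨c, (CoalgHomClass.counit_comp_apply d.ψ c).symm.trans hc, rfl⟩
    · rintro ⟨c, hc, rfl⟩
      exact ⟨⟨c, rfl⟩, (CoalgHomClass.counit_comp_apply d.ψ c).trans hc⟩
  rw [← invAlg_eq_of_augIdealSpan hB, hI, mem_invAlg]
  let e : (A ⧸ RingHom.ker (d.q : A →+* MonoidAlgebra k M)) →ₐ[k] MonoidAlgebra k M :=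
    Ideal.Quotient.liftₐ _ (d.q : A →ₐ[k] MonoidAlgebra k M) fun x hx => hx
  have he : Function.Injective e := by
    intro x y h
    obtain ⟨x, rfl⟩ := Ideal.Quotient.mk_surjective x
    obtain ⟨y, rfl⟩ := Ideal.Quotient.mk_surjective y
    refine Ideal.Quotient.eq.2 ?_
    show d.q (x - y) = 0
    rw [map_sub, sub_eq_zero]
    exact h
  refine Module.Flat.lTensor_preserves_injective_linearMap (M := A) e.toLinearMap he ?_
  rw [shift_eq, ← LinearMap.lTensor_comp_apply, LinearMap.lTensor_tmul]
  refine Eq.trans ?_ ((ha).trans ?_)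
  · rw [δ_eq]; rfl
  · show a ⊗ₜ[k] (1 : MonoidAlgebra k M) = a ⊗ₜ[k] e 1
    rw [map_one]

end Data

section Conj

variable {Q : Type u} [CommRing Q] [HopfAlgebra k Q] (q : A →ₐc[k] Q)

theorem factor_mul_at (hq : Function.Surjective q) {R : Type u} [CommRing R] [Algebra k R] (D f g : Q →ₐ[k] R)
    (h : (toConv (D.comp (q : A →ₐ[k] Q)) : Pt k A R) =
      toConv (f.comp (q : A →ₐ[k] Q)) * toConv (g.comp (q : A →ₐ[k] Q)))
    (m : Q) (hm : CoalgebraStruct.comul (R := k) m = m ⊗ₜ[k] m) : D m = f m * g m := by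
  obtain ⟨a, rfl⟩ := hq m
  have h1 := congrArg (fun p : Pt k A R => p.ofConv a) h
  rw [mul_apply] at h1
  have e : ∀ t : A ⊗[k] A,
      Algebra.TensorProduct.lift (f.comp (q : A →ₐ[k] Q)) (g.comp (q : A →ₐ[k] Q)) (fun _ _ => .all ..) t =
        Algebra.TensorProduct.lift f g (fun _ _ => .all ..)
          (TensorProduct.map (q : A →ₗ[k] Q) (q : A →ₗ[k] Q) t) := fun t => by
    induction t using TensorProduct.induction_on with
    | zero => simp
    | add x y hx hy => simp only [map_add, hx, hy]
    | tmul x y => simp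
  refine (h1.trans (e _)).trans ?_
  rw [CoalgHomClass.map_comp_comul_apply q a, hm, Algebra.TensorProduct.lift_tmul]

/-- The first slot. -/
def sl₁ : A ⊗[k] Q →ₐ[k] A ⊗[k] (Q ⊗[k] Q) :=
  Algebra.TensorProduct.map (AlgHom.id k A) Algebra.TensorProduct.includeLeft

/-- The second slot. -/
def sl₂ : A ⊗[k] Q →ₐ[k] A ⊗[k] (Q ⊗[k] Q) :=
  Algebra.TensorProduct.map (AlgHom.id k A) Algebra.TensorProduct.includeRight

/-- Comultiplication in the second variable. -/
def slD : A ⊗[k] Q →ₐ[k] A ⊗[k] (Q ⊗[k] Q) :=
  Algebra.TensorProduct.map (AlgHom.id k A) (Bialgebra.comulAlgHom k Q)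

/-- Translation of the first variable by the second slot. -/
def slT : A ⊗[k] Q →ₐ[k] A ⊗[k] (Q ⊗[k] Q) :=
  Algebra.TensorProduct.lift
    (push (Algebra.TensorProduct.includeLeft) (idPt k A) *
      push (Algebra.TensorProduct.includeRight.comp Algebra.TensorProduct.includeRight) (toConv (q : A →ₐ[k] Q)) :
      Pt k A (A ⊗[k] (Q ⊗[k] Q))).ofConv
    (Algebra.TensorProduct.includeRight.comp Algebra.TensorProduct.includeLeft)
    fun _ _ => Commute.all _ _

theorem sl₁_tmul (a : A) (z : Q) : sl₁ (k := k) (a ⊗ₜ[k] z) = a ⊗ₜ[k] (z ⊗ₜ[k] 1) := rfl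

theorem sl₂_tmul (a : A) (z : Q) : sl₂ (k := k) (a ⊗ₜ[k] z) = a ⊗ₜ[k] (1 ⊗ₜ[k] z) := rfl

theorem slD_tmul (a : A) (z : Q) : slD (k := k) (a ⊗ₜ[k] z) = a ⊗ₜ[k] CoalgebraStruct.comul (R := k) z := rfl

theorem slT_tmul_one (a : A) : slT q (a ⊗ₜ[k] 1) =
    (push (Algebra.TensorProduct.includeLeft) (idPt k A) *
      push (Algebra.TensorProduct.includeRight.comp Algebra.TensorProduct.includeRight) (toConv (q : A →ₐ[k] Q)) :
      Pt k A (A ⊗[k] (Q ⊗[k] Q))).ofConv a := by
  rw [slT, Algebra.TensorProduct.lift_tmul, map_one, mul_one]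

theorem slT_one_tmul (z : Q) : slT q ((1 : A) ⊗ₜ[k] z) = (1 : A) ⊗ₜ[k] (z ⊗ₜ[k] 1) := by
  simp [slT]

/-- Conjugation of the kernel by the group, read on a group-like element and an idempotent functional. -/
theorem slice_conj (hq : Function.Surjective q) (hcomm : ∀ {R : Type u} [CommRing R] [Algebra k R] (f g : Q →ₐ[k] R),
      (toConv (f.comp (q : A →ₐ[k] Q)) : Pt k A R) * toConv (g.comp (q : A →ₐ[k] Q)) =
        toConv (g.comp (q : A →ₐ[k] Q)) * toConv (f.comp (q : A →ₐ[k] Q)))
    (φ : Q →ₐ[k] A ⊗[k] Q)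
    (hφ : push Algebra.TensorProduct.includeLeft (idPt k A) *
        push Algebra.TensorProduct.includeRight (toConv (q : A →ₐ[k] Q)) *
        (push Algebra.TensorProduct.includeLeft (idPt k A))⁻¹ = (toConv (φ.comp (q : A →ₐ[k] Q)) : Pt k A (A ⊗[k] Q)))
    (m : Q) (hm : CoalgebraStruct.comul (R := k) m = m ⊗ₜ[k] m) (e : Q →ₗ[k] k)
    (he : ∀ z, LinearMap.mul' k k (TensorProduct.map e e (CoalgebraStruct.comul (R := k) z)) = e z) :
    sliceR e (φ m) * sliceR e (φ m) = sliceR e (φ m) ∧
      CoalgebraStruct.counit (R := k) (sliceR e (φ m)) = e m ∧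
      LinearMap.lTensor A (q : A →ₗ[k] Q) (CoalgebraStruct.comul (R := k) (sliceR e (φ m))) =
        sliceR e (φ m) ⊗ₜ[k] 1 := by
  set gL : Pt k A (A ⊗[k] Q) := push Algebra.TensorProduct.includeLeft (idPt k A) with hgL
  set n : Pt k A (A ⊗[k] Q) := push Algebra.TensorProduct.includeRight (toConv (q : A →ₐ[k] Q)) with hn
  set g0 : Pt k A (A ⊗[k] (Q ⊗[k] Q)) := push Algebra.TensorProduct.includeLeft (idPt k A) with hg0
  set n2 : Pt k A (A ⊗[k] (Q ⊗[k] Q)) :=
    push (Algebra.TensorProduct.includeRight.comp Algebra.TensorProduct.includeRight) (toConv (q : A →ₐ[k] Q)) with hn2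
  set n1 : Pt k A (A ⊗[k] (Q ⊗[k] Q)) :=
    push (Algebra.TensorProduct.includeRight.comp Algebra.TensorProduct.includeLeft) (toConv (q : A →ₐ[k] Q)) with hn1
  have h1g : push sl₁ gL = g0 := WithConv.ext (AlgHom.ext fun a => rfl)
  have h2g : push sl₂ gL = g0 := WithConv.ext (AlgHom.ext fun a => rfl)
  have hDg : push slD gL = g0 := WithConv.ext (AlgHom.ext fun a => by
    show slD (k := k) (a ⊗ₜ[k] 1) = _
    rw [slD_tmul, Bialgebra.comul_one]; rfl)
  have h1n : push sl₁ n = n1 := WithConv.ext (AlgHom.ext fun a => rfl)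
  have h2n : push sl₂ n = n2 := WithConv.ext (AlgHom.ext fun a => rfl)
  have hDn : push slD n = n1 * n2 := WithConv.ext (AlgHom.ext fun a => by
    rw [mul_apply]
    show (1 : A) ⊗ₜ[k] CoalgebraStruct.comul (R := k) (q a) = _
    rw [← CoalgHomClass.map_comp_comul_apply q a]
    induction CoalgebraStruct.comul (R := k) a using TensorProduct.induction_on with
    | zero => simp
    | add x y hx hy => simp only [map_add, TensorProduct.tmul_add, hx, hy]
    | tmul x y => simp [n1, n2])
  have hTg : push (slT q) gL = g0 * n2 := WithConv.ext (AlgHom.ext fun a => slT_tmul_one q a)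
  have hTn : push (slT q) n = n1 := WithConv.ext (AlgHom.ext fun a => slT_one_tmul q _)
  have hmul : push slD (gL * n * gL⁻¹) = push sl₁ (gL * n * gL⁻¹) * push sl₂ (gL * n * gL⁻¹) := by
    rw [map_mul, map_mul, map_inv, map_mul, map_mul, map_inv, map_mul, map_mul, map_inv, hDg, h1g, h2g, hDn, h1n, h2n]
    group
  have hc : n1 * n2 = n2 * n1 := hcomm _ _
  have hT : push (slT q) (gL * n * gL⁻¹) = push sl₁ (gL * n * gL⁻¹) := by
    rw [map_mul, map_mul, map_inv, map_mul, map_mul, map_inv, hTg, hTn, h1g, h1n, mul_inv_rev, mul_assoc g0 n2 n1, ← hc]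
    group
  rw [hφ] at hmul hT
  have hD' := factor_mul_at q hq (slD.comp φ) (sl₁.comp φ) (sl₂.comp φ) hmul m hm
  obtain ⟨a, ha⟩ := hq m
  have hT' : slT q (φ m) = sl₁ (k := k) (φ m) := by
    have h := congrArg (fun p : Pt k A (A ⊗[k] (Q ⊗[k] Q)) => p.ofConv a) hT
    rw [← ha]
    exact h
  refine ⟨?_, ?_, ?_⟩
  · have e1 : ∀ s, sliceR (LinearMap.mul' k k ∘ₗ TensorProduct.map e e) ((slD : A ⊗[k] Q →ₐ[k] A ⊗[k] (Q ⊗[k] Q)) s) = sliceR e s := fun s => by
      induction s using TensorProduct.induction_on with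
      | zero => simp
      | add p q hp hq => simp only [map_add, hp, hq]
      | tmul b z => rw [slD_tmul, sliceR_tmul, sliceR_tmul, LinearMap.comp_apply, he]
    have h := congrArg (sliceR (LinearMap.mul' k k ∘ₗ TensorProduct.map e e)) hD'
    rw [AlgHom.comp_apply, AlgHom.comp_apply, AlgHom.comp_apply, e1] at h
    exact (h.trans (slice_mul e e (φ m) (φ m))).symm
  · let eA : A ⊗[k] Q →ₐ[k] Q :=
      Algebra.TensorProduct.lift ((Algebra.ofId k Q).comp (Bialgebra.counitAlgHom k A)) (AlgHom.id k Q) fun _ _ => .all _ _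
    have hg : push eA gL = 1 := WithConv.ext (AlgHom.ext fun b => by
      rw [one_apply]
      show eA (b ⊗ₜ[k] 1) = _
      simp [eA, Algebra.ofId_apply])
    have hn' : push eA n = toConv (q : A →ₐ[k] Q) := WithConv.ext (AlgHom.ext fun b => by
      show eA ((1 : A) ⊗ₜ[k] q b) = _
      simp [eA])
    have hp : push eA (gL * n * gL⁻¹) = toConv (q : A →ₐ[k] Q) := by rw [map_mul, map_mul, map_inv, hg, hn']; group
    rw [hφ] at hp
    have h : eA (φ (q a)) = q a := congrArg (fun p : Pt k A Q => p.ofConv a) hp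
    rw [ha] at h
    have e2 : ∀ s, CoalgebraStruct.counit (R := k) (sliceR e s) = e (eA s) := fun s => by
      induction s using TensorProduct.induction_on with
      | zero => simp
      | add p q hp hq => simp only [map_add, hp, hq]
      | tmul b z =>
        simp [eA, Algebra.ofId_apply]
        rw [← Algebra.smul_def, map_smul, smul_eq_mul, mul_comm]
    rw [e2, h]
  · let L : A ⊗[k] (Q ⊗[k] Q) →ₗ[k] A ⊗[k] Q :=
      LinearMap.lTensor A ((TensorProduct.lid k Q).toLinearMap ∘ₗ e.rTensor Q)
    have e1 : ∀ s, L (slT q s) = LinearMap.lTensor A (q : A →ₗ[k] Q) (CoalgebraStruct.comul (R := k) (sliceR e s)) := fun s => by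
      induction s using TensorProduct.induction_on with
      | zero => simp
      | add p q hp hq => simp only [map_add, hp, hq]
      | tmul b z =>
        rw [show b ⊗ₜ[k] z = (b ⊗ₜ[k] (1 : Q)) * ((1 : A) ⊗ₜ[k] z) by
          rw [Algebra.TensorProduct.tmul_mul_tmul, mul_one, one_mul], map_mul, slT_tmul_one, slT_one_tmul, mul_apply]
        rw [Algebra.TensorProduct.tmul_mul_tmul, mul_one, one_mul, sliceR_tmul, map_smul, map_smul]
        induction CoalgebraStruct.comul (R := k) b using TensorProduct.induction_on with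
        | zero => simp
        | add x y hx hy => simp only [map_add, add_mul, smul_add, hx, hy]
        | tmul x y => simp [L, TensorProduct.tmul_smul]
    have e2 : ∀ s : A ⊗[k] Q, L (sl₁ (k := k) s) = sliceR e s ⊗ₜ[k] 1 := fun s => by
      induction s using TensorProduct.induction_on with
      | zero => simp
      | add p q hp hq => simp only [map_add, TensorProduct.add_tmul, hp, hq]
      | tmul b z => simp [L, sl₁_tmul, TensorProduct.tmul_smul, TensorProduct.smul_tmul']
    have h := congrArg L hT'
    rwa [e1, e2] at h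

end Conj

namespace Data

variable (d : Data k A C M)

/-- The two translations by the diagonalisable group agree. -/
theorem central :
    (push Algebra.TensorProduct.includeLeft (idPt k A) *
      push Algebra.TensorProduct.includeRight (toConv (d.q : A →ₐ[k] MonoidAlgebra k M)) : Pt k A (A ⊗[k] MonoidAlgebra k M)) =
    push Algebra.TensorProduct.includeRight (toConv (d.q : A →ₐ[k] MonoidAlgebra k M)) *
      push Algebra.TensorProduct.includeLeft (idPt k A) := by
  classical
  set gL : Pt k A (A ⊗[k] MonoidAlgebra k M) := push Algebra.TensorProduct.includeLeft (idPt k A) with hgLdef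
  set n : Pt k A (A ⊗[k] MonoidAlgebra k M) :=
    push Algebra.TensorProduct.includeRight (toConv (d.q : A →ₐ[k] MonoidAlgebra k M)) with hndef
  let res : Pt k A (A ⊗[k] MonoidAlgebra k M) →* Pt k C (A ⊗[k] MonoidAlgebra k M) :=
    MonoidHom.mk' (fun p => toConv (p.ofConv.comp (d.ψ : C →ₐ[k] A))) fun p q => WithConv.ext (AlgHom.ext fun b => by
      show (p * q).ofConv (d.ψ b) = _
      rw [mul_apply, mul_apply, ← CoalgHomClass.map_comp_comul_apply d.ψ b]
      induction CoalgebraStruct.comul (R := k) b using TensorProduct.induction_on with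
      | zero => simp
      | add x y hx hy => simp only [map_add, hx, hy]
      | tmul x y => simp)
  have hn : res n = 1 := WithConv.ext (AlgHom.ext fun c => by
    show (Algebra.TensorProduct.includeRight : MonoidAlgebra k M →ₐ[k] A ⊗[k] MonoidAlgebra k M) (d.q (d.ψ c)) = _
    rw [d.q_ψ, one_apply, AlgHom.commutes])
  have hh : res (gL * n * gL⁻¹) = 1 := by rw [map_mul, map_mul, map_inv, hn, mul_one, mul_inv_cancel]
  obtain ⟨φ, hφ⟩ := d.kills_iff (gL * n * gL⁻¹) fun c => by
    have := congrArg (fun p : Pt k C (A ⊗[k] MonoidAlgebra k M) => p.ofConv c) hh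
    rw [one_apply] at this
    exact this
  have hφ1 : φ = (Algebra.TensorProduct.includeRight : MonoidAlgebra k M →ₐ[k] A ⊗[k] MonoidAlgebra k M) := by
    refine MonoidAlgebra.algHom_ext (fun m => ext_coord fun x => ?_) (Subsingleton.elim _ _)
    obtain ⟨h1, h2, h3⟩ := slice_conj d.q d.surj (fun f g => comm_of_factor d.q f g) φ hφ (MonoidAlgebra.single m 1)
      (comul_single_one m) (coord x) (fun z => by
        induction z using MonoidAlgebra.induction_linear with
        | zero => simp
        | add p q hp hq => simp only [map_add, hp, hq]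
        | single y r =>
          rw [single_eq_smul y r, map_smul, map_smul, map_smul, map_smul, comul_single_one, TensorProduct.map_tmul,
            LinearMap.mul'_apply, coord_single]
          split_ifs <;> simp)
    have hδ : d.δ (sliceR (coord x) (φ (MonoidAlgebra.single m 1))) =
        sliceR (coord x) (φ (MonoidAlgebra.single m 1)) ⊗ₜ[k] 1 := by rw [δ_eq]; exact h3
    obtain ⟨e, he⟩ := d.mem_range_of_δ hδ
    have he' : IsIdempotentElem e := d.inj (by
      show d.ψ (e * e) = d.ψ e
      rw [map_mul, show d.ψ e = _ from he, h1])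
    rw [← he] at h2
    rw [← he, Algebra.TensorProduct.includeRight_apply, sliceR_tmul, ← h2,
      show CoalgebraStruct.counit (R := k) ((d.ψ : C →ₐ[k] A).toRingHom e) = CoalgebraStruct.counit (R := k) e from
        CoalgHomClass.counit_comp_apply d.ψ e]
    rcases d.conn e he' with rfl | rfl
    · simp
    · simp
  rw [hφ1] at hφ
  exact mul_inv_eq_iff_eq_mul.1 hφ

end Data

end Groth.Agent.MultByUnip26
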