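import Groth.Agent.MultByUnip26.Central
import Groth.Agent.HopfLib.Kolchin
import Groth.Agent.HopfLib.LieKolchinComod
import Groth.Agent.HopfLib.Subcoalgebra
import Groth.Agent.HopfLib.GITPoints
import Groth.Agent.HopfLib.FaithfullyFlat
import Groth.Agent.HopfQuot.UnipotentCrit
import Groth.Agent.HopfUnip26.UnitsConst

/-! Every character of the diagonalisable subgroup extends to a character of the extension. -/

set_option autoImplicit false
set_option linter.style.haveILetI false
set_option linter.unusedSectionVars false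
set_option maxHeartbeats 800000
set_option backward.isDefEq.respectTransparency.types false
universe u

open TensorProduct WithConv
open Groth.Agent.HopfQuot Groth.Agent.HopfLib

noncomputable section

namespace Groth.Agent.MultByUnip26

variable {k : Type u} [Field k] {A C : Type u} [CommRing A] [HopfAlgebra k A] [CommRing C] [HopfAlgebra k C]
  {M : Type u} [CommGroup M]

theorem hitR_toLinearMap_one (a : A) : hitR (A := A) (1 : Pt k A k).ofConv.toLinearMap a = a := by
  have : (1 : Pt k A k).ofConv.toLinearMap = (Coalgebra.counit : A →ₗ[k] k) := LinearMap.ext fun x => by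
    rw [AlgHom.toLinearMap_apply, one_apply]; rfl
  rw [this, hitR_counit]

theorem hitR_toLinearMap_mul (x y : Pt k A k) (a : A) :
    hitR (x * y).ofConv.toLinearMap a = hitR x.ofConv.toLinearMap (hitR y.ofConv.toLinearMap a) := by
  rw [hitR_hitR]
  congr 1

theorem counit_hitR (g : A →ₗ[k] k) (a : A) : CoalgebraStruct.counit (R := k) (hitR g a) = g a :=
  HopfQuot.counit_hit g a

theorem apply_hitR (g : Pt k A k) (y : Pt k A k) (a : A) :
    y.ofConv (hitR g.ofConv.toLinearMap a) = (y * g).ofConv a := by
  rw [← AlgHom.toLinearMap_apply, ← counit_hitR y.ofConv.toLinearMap, ← hitR_toLinearMap_mul, counit_hitR,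
    AlgHom.toLinearMap_apply]

theorem apply_hitL (ω : A →ₗ[k] k) (y : A →ₗ[k] k) (a : A) : y (hitL ω a) = ω (hitR y a) := by
  show y (sliceL ω (Coalgebra.comul a)) = ω (sliceR y (Coalgebra.comul a))
  generalize Coalgebra.comul (R := k) a = t
  induction t using TensorProduct.induction_on with
  | zero => simp
  | add p q hp hq => simp only [map_add, hp, hq]
  | tmul p q => simp [mul_comm]

theorem hitR_map (ψ : C →ₐc[k] A) (g : A →ₗ[k] k) (c : C) :
    hitR g (ψ c) = ψ (hitR (g ∘ₗ (ψ : C →ₗ[k] A)) c) := by
  show sliceR g (CoalgebraStruct.comul (R := k) (ψ c)) = ψ (sliceR _ (CoalgebraStruct.comul (R := k) c))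
  rw [← CoalgHomClass.map_comp_comul_apply ψ c]
  induction CoalgebraStruct.comul (R := k) c using TensorProduct.induction_on with
  | zero => simp
  | add p q hp hq => simp only [map_add, hp, hq]
  | tmul p q => simp

namespace Data

variable (d : Data k A C M)

/-- The weight spaces of the diagonalisable subgroup. -/
def W (χ : M) : Submodule k A :=
  LinearMap.ker (d.δ.toLinearMap - (TensorProduct.mk k A (MonoidAlgebra k M)).flip (MonoidAlgebra.single χ 1))

theorem mem_W {χ : M} {a : A} : a ∈ d.W χ ↔ d.δ a = a ⊗ₜ[k] MonoidAlgebra.single χ (1 : k) := by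
  rw [W, LinearMap.mem_ker, LinearMap.sub_apply, sub_eq_zero]
  rfl

theorem mul_mem_W {χ χ' : M} {a b : A} (ha : a ∈ d.W χ) (hb : b ∈ d.W χ') : a * b ∈ d.W (χ * χ') := by
  rw [mem_W] at ha hb ⊢
  rw [map_mul, ha, hb, Algebra.TensorProduct.tmul_mul_tmul, MonoidAlgebra.single_mul_single, one_mul]

theorem one_mem_W : (1 : A) ∈ d.W 1 := by
  rw [mem_W, map_one]
  rfl

theorem δ_eq' (a : A) :
    d.δ a = TensorProduct.comm k _ _
      (LinearMap.rTensor A (d.q : A →ₐ[k] MonoidAlgebra k M).toLinearMap (CoalgebraStruct.comul (R := k) a)) := by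
  rw [δ, d.central, mul_apply]
  generalize CoalgebraStruct.comul (R := k) a = t
  induction t using TensorProduct.induction_on with
  | zero => simp
  | add p q hp hq => simp only [map_add, hp, hq]
  | tmul p q => simp

theorem δ_hitR (η : A →ₗ[k] k) (a : A) : d.δ (hitR η a) = LinearMap.rTensor _ (hitR η) (d.δ a) := by
  have h1 : d.δ (hitR η a) = TensorProduct.comm k _ _
      (LinearMap.rTensor A (d.q : A →ₐ[k] MonoidAlgebra k M).toLinearMap
        (sliceR η ((Coalgebra.comul (R := k) (A := A)).rTensor A (Coalgebra.comul a)))) := by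
    rw [← comul_sliceR, δ_eq']; rfl
  have h2 : ∀ t : A ⊗[k] A, LinearMap.rTensor (MonoidAlgebra k M) (hitR η) (TensorProduct.comm k _ _
      (LinearMap.rTensor A (d.q : A →ₐ[k] MonoidAlgebra k M).toLinearMap t)) =
      TensorProduct.comm k _ _ (TensorProduct.map (d.q : A →ₐ[k] MonoidAlgebra k M).toLinearMap (sliceR η)
        ((Coalgebra.comul (R := k) (A := A)).lTensor A t)) := fun t => by
    induction t using TensorProduct.induction_on with
    | zero => simp
    | add p q hp hq => simp only [map_add, hp, hq]
    | tmul p q => simp [hitR]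
  rw [h1, δ_eq', h2, ← Coalgebra.coassoc_apply (R := k) a]
  generalize (Coalgebra.comul (R := k) (A := A)).rTensor A (Coalgebra.comul a) = Y
  induction Y using TensorProduct.induction_on with
  | zero => simp
  | add p q hp hq => simp only [map_add, hp, hq]
  | tmul ab c =>
    induction ab using TensorProduct.induction_on with
    | zero => simp
    | add p q hp hq => simp only [TensorProduct.add_tmul, map_add, hp, hq]
    | tmul a b => simp [TensorProduct.smul_tmul']

theorem δ_hitL (η : A →ₗ[k] k) (a : A) : d.δ (hitL η a) = LinearMap.rTensor _ (hitL η) (d.δ a) := by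
  have h1 : d.δ (hitL η a) = LinearMap.lTensor A (d.q : A →ₐ[k] MonoidAlgebra k M).toLinearMap
        (sliceL η ((Coalgebra.comul (R := k) (A := A)).lTensor A (Coalgebra.comul a))) := by
    rw [← comul_sliceL, δ_eq]; rfl
  have h2 : ∀ t : A ⊗[k] A, LinearMap.rTensor (MonoidAlgebra k M) (hitL η)
      (LinearMap.lTensor A (d.q : A →ₐ[k] MonoidAlgebra k M).toLinearMap t) =
      TensorProduct.map (sliceL η) (d.q : A →ₐ[k] MonoidAlgebra k M).toLinearMap
        ((Coalgebra.comul (R := k) (A := A)).rTensor A t) := fun t => by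
    induction t using TensorProduct.induction_on with
    | zero => simp
    | add p q hp hq => simp only [map_add, hp, hq]
    | tmul p q => simp [hitL]
  rw [h1, δ_eq, h2, ← Coalgebra.coassoc_apply (R := k) a]
  generalize (Coalgebra.comul (R := k) (A := A)).rTensor A (Coalgebra.comul a) = Y
  induction Y using TensorProduct.induction_on with
  | zero => simp
  | add p q hp hq => simp only [map_add, hp, hq]
  | tmul ab c =>
    induction ab using TensorProduct.induction_on with
    | zero => simp
    | add p q hp hq => simp only [TensorProduct.add_tmul, map_add, hp, hq]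
    | tmul a b => simp [TensorProduct.smul_tmul']

theorem hitR_mem_W {χ : M} {a : A} (ha : a ∈ d.W χ) (η : A →ₗ[k] k) : hitR η a ∈ d.W χ := by
  rw [mem_W] at ha ⊢
  rw [δ_hitR, ha, LinearMap.rTensor_tmul]

theorem hitL_mem_W {χ : M} {a : A} (ha : a ∈ d.W χ) (η : A →ₗ[k] k) : hitL η a ∈ d.W χ := by
  rw [mem_W] at ha ⊢
  rw [δ_hitL, ha, LinearMap.rTensor_tmul]

theorem antipode_mem_W {χ : M} {a : A} (ha : a ∈ d.W χ) : HopfAlgebraStruct.antipode k a ∈ d.W χ⁻¹ := by
  rw [mem_W] at ha ⊢
  set gL : Pt k A (A ⊗[k] MonoidAlgebra k M) := push Algebra.TensorProduct.includeLeft (idPt k A) with hgL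
  set n : Pt k A (A ⊗[k] MonoidAlgebra k M) :=
    push Algebra.TensorProduct.includeRight (toConv (d.q : A →ₐ[k] MonoidAlgebra k M)) with hn
  have h1 : d.δ (HopfAlgebraStruct.antipode k a) = (gL⁻¹ * n⁻¹).ofConv a := by
    show (gL * n).ofConv (HopfAlgebraStruct.antipode k a) = _
    rw [← inv_apply, d.central, mul_inv_rev]
  have h2 : ∀ t : A ⊗[k] A, Algebra.TensorProduct.lift gL⁻¹.ofConv n⁻¹.ofConv (fun _ _ => .all ..) t =
      TensorProduct.map (HopfAlgebraStruct.antipode k (A := A))
        (HopfAlgebraStruct.antipode k (A := MonoidAlgebra k M))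
        (LinearMap.lTensor A (d.q : A →ₐ[k] MonoidAlgebra k M).toLinearMap t) := fun t => by
    induction t using TensorProduct.induction_on with
    | zero => simp
    | add p q hp hq => simp only [map_add, hp, hq]
    | tmul p q =>
      rw [Algebra.TensorProduct.lift_tmul, inv_apply, inv_apply, LinearMap.lTensor_tmul, TensorProduct.map_tmul]
      show (HopfAlgebraStruct.antipode k p ⊗ₜ[k] (1 : MonoidAlgebra k M)) *
          ((1 : A) ⊗ₜ[k] d.q (HopfAlgebraStruct.antipode k q)) = _
      rw [Algebra.TensorProduct.tmul_mul_tmul, mul_one, one_mul,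
        show d.q (HopfAlgebraStruct.antipode k q) = HopfAlgebraStruct.antipode k (d.q q) from map_antipode' d.q q]
      rfl
  rw [h1, mul_apply, h2, ← δ_eq, ha, TensorProduct.map_tmul]
  simp

theorem exists_mem_W (χ : M) : ∃ a, a ∈ d.W χ ∧ CoalgebraStruct.counit (R := k) a = 1 := by
  classical
  obtain ⟨a₀, ha₀⟩ := d.surj (MonoidAlgebra.single χ 1)
  let q' : A →ₗ[k] MonoidAlgebra k M := (d.q : A →ₐ[k] MonoidAlgebra k M).toLinearMap
  refine ⟨hitR (coord χ ∘ₗ q') a₀, d.mem_W.2 ?_, ?_⟩
  · have h1 : d.δ (hitR (coord χ ∘ₗ q') a₀) = LinearMap.lTensor A q'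
        (sliceR (coord χ ∘ₗ q') ((Coalgebra.comul (R := k) (A := A)).rTensor A (Coalgebra.comul a₀))) := by
      rw [← comul_sliceR, δ_eq]; rfl
    have h2 : ∀ Y : (A ⊗[k] A) ⊗[k] A, LinearMap.lTensor A q' (sliceR (coord χ ∘ₗ q') Y) =
        LinearMap.lTensor A (sliceR (coord χ) ∘ₗ TensorProduct.map q' q') (TensorProduct.assoc k A A A Y) := fun Y => by
      induction Y using TensorProduct.induction_on with
      | zero => simp
      | add p q hp hq => simp only [map_add, hp, hq]
      | tmul ab c =>
        induction ab using TensorProduct.induction_on with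
        | zero => simp
        | add p q hp hq => simp only [TensorProduct.add_tmul, map_add, hp, hq]
        | tmul a b => simp [TensorProduct.tmul_smul]
    have h3 : ∀ z : MonoidAlgebra k M,
        sliceR (coord χ) (CoalgebraStruct.comul (R := k) z) = coord χ z • MonoidAlgebra.single χ (1 : k) := fun z => by
      induction z using MonoidAlgebra.induction_linear with
      | zero => simp
      | add p q hp hq => simp only [map_add, add_smul, hp, hq]
      | single y r =>
        rw [single_eq_smul y r, map_smul, map_smul, map_smul, comul_single_one, sliceR_tmul, coord_single, smul_assoc]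
        split_ifs with h <;> simp [h]
    have h4 : ∀ t : A ⊗[k] A, LinearMap.lTensor A (sliceR (coord χ) ∘ₗ TensorProduct.map q' q')
        ((Coalgebra.comul (R := k) (A := A)).lTensor A t) =
        sliceR (coord χ ∘ₗ q') t ⊗ₜ[k] MonoidAlgebra.single χ (1 : k) := fun t => by
      induction t using TensorProduct.induction_on with
      | zero => simp
      | add p q hp hq => simp only [map_add, TensorProduct.add_tmul, hp, hq]
      | tmul p b =>
        rw [LinearMap.lTensor_tmul, LinearMap.lTensor_tmul, LinearMap.comp_apply,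
          show TensorProduct.map q' q' (Coalgebra.comul b) = CoalgebraStruct.comul (R := k) (d.q b) from
            CoalgHomClass.map_comp_comul_apply d.q b, h3, sliceR_tmul, TensorProduct.tmul_smul,
          TensorProduct.smul_tmul']
        rfl
    rw [h1, h2, Coalgebra.coassoc_apply, h4]
    rfl
  · rw [counit_hitR]
    show coord χ (d.q a₀) = 1
    rw [ha₀, coord_single, if_pos rfl]

theorem mem_range_of_mem_W_one {a : A} (ha : a ∈ d.W 1) : a ∈ (d.ψ : C →ₐ[k] A).range :=
  d.mem_range_of_δ ((d.mem_W.1 ha).trans rfl)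

section AlgClosed

variable [IsAlgClosed k] [Algebra.FiniteType k A] [IsReduced C]

theorem eq_zero_of_pts {c : C} (h : ∀ x : Pt k A k, x.ofConv (d.ψ c) = 0) : c = 0 := by
  by_contra hc
  obtain ⟨x, hx⟩ := exists_algHom_ne_zero (k := k) (f := d.ψ c) fun hn => hc (by
    obtain ⟨n, hn⟩ := hn
    exact IsNilpotent.eq_zero ⟨n, d.inj (by rw [map_pow, hn, map_zero])⟩)
  exact hx (h (toConv x))

theorem eq_zero_of_mem_W {χ : M} {a : A} (ha : a ∈ d.W χ) (h : ∀ x : Pt k A k, x.ofConv a = 0) : a = 0 := by
  have h0 : ∀ b ∈ d.W χ⁻¹, a * b = 0 := by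
    intro b hb
    obtain ⟨c, hc⟩ := d.mem_range_of_mem_W_one (mul_inv_cancel χ ▸ d.mul_mem_W ha hb)
    rw [← hc, show c = 0 from d.eq_zero_of_pts fun x => by
      rw [show d.ψ c = a * b from hc, map_mul, h, zero_mul], map_zero]
  obtain ⟨b, hb, hb1⟩ := d.exists_mem_W χ
  let f : A →ₗ[k] A := LinearMap.mulLeft k a ∘ₗ HopfAlgebraStruct.antipode k (A := A)
  have hf : LinearMap.rTensor A f (Coalgebra.comul b) = 0 := eq_of_forall_sliceR_eq fun g => by
    rw [sliceR_rTensor, map_zero]
    show a * HopfAlgebraStruct.antipode k (hitR g b) = 0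
    exact h0 _ (d.antipode_mem_W (d.hitR_mem_W hb g))
  have h1 := congrArg (LinearMap.mul' k A) hf
  have h2 : ∀ t : A ⊗[k] A, LinearMap.mul' k A (LinearMap.rTensor A f t) =
      a * LinearMap.mul' k A (LinearMap.rTensor A (HopfAlgebraStruct.antipode k) t) := fun t => by
    induction t using TensorProduct.induction_on with
    | zero => simp
    | add p q hp hq => simp only [map_add, mul_add, hp, hq]
    | tmul p q => simp [f, mul_assoc]
  rw [h2, HopfAlgebra.mul_antipode_rTensor_comul_apply, show Coalgebra.counit (R := k) b = 1 from hb1, map_one,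
    mul_one, map_zero] at h1
  exact h1

variable [Algebra.FiniteType k C]

/-- Translation by a point minus the identity is locally nilpotent on a unipotent algebra. -/
theorem exists_pow_hitR_eq_zero (hU : HopfRep.IsUnipotent k C) (y : Pt k C k) (c : C) :
    ∃ n : ℕ, ((hitR y.ofConv.toLinearMap - 1 : Module.End k C) ^ n) c = 0 := by
  obtain ⟨r, hr⟩ := isUnipotent_iff_forall_mem_socFil.1 hU c
  refine ⟨r + 1, ?_⟩
  have key : ∀ r : ℕ, ∀ c ∈ socFil k C r, ((hitR y.ofConv.toLinearMap - 1 : Module.End k C) ^ r) c = 0 := by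
    intro r
    induction r with
    | zero => intro c hc; rw [socFil, Submodule.mem_bot] at hc; simp [hc]
    | succ r ih =>
      intro c hc
      rw [pow_succ, Module.End.mul_apply]
      refine ih _ ?_
      let g : C →ₗ[k] k := y.ofConv.toLinearMap - Coalgebra.counit
      have hg : g 1 = 0 := by simp [g]
      have h : hit (V := C) g c ∈ socFil k C r := mem_socFil_succ.1 hc g hg
      have e : hit (V := C) g c = (hitR y.ofConv.toLinearMap - 1 : Module.End k C) c := by
        rw [hit_regular, LinearMap.sub_apply, Module.End.one_apply]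
        conv_rhs => rw [← hitR_counit (k := k) c]; rfl
        simp [g, hitR, sliceR, LinearMap.lTensor_sub]
      rwa [e] at h
  exact key _ c hr

end AlgClosed

end Data

end Groth.Agent.MultByUnip26
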