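import Groth.Agent.MultByUnip26.Retraction
import Groth.Agent.HopfQuot.UnipotentBaseChange
import Groth.Agent.IsoTriv.Henselian
import Groth.Agent.IsoTriv.HomDescent
import Mathlib.FieldTheory.Galois.Infinite
import Mathlib.FieldTheory.Perfect

/-! Descent of the retraction to a perfect field. -/

set_option autoImplicit false
set_option linter.style.haveILetI false
set_option linter.unusedSectionVars false
set_option maxHeartbeats 800000
set_option maxSynthPendingDepth 3
set_option backward.isDefEq.respectTransparency.types false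
universe u

open TensorProduct WithConv
open Groth.Agent.HopfQuot Groth.Agent.HopfLib

noncomputable section

namespace Groth.Agent.MultByUnip26

/-- The unique retraction of an extension by a group of multiplicative type. -/
theorem existsUnique_retraction (k : Type u) [Field k] [PerfectField k] (A C : Type u) [CommRing A] [HopfAlgebra k A]
    [Algebra.FiniteType k A] [CommRing C] [HopfAlgebra k C] [Algebra.FiniteType k C] [Algebra.FormallySmooth k C]
    (hC : HopfRep.IsUnipotent k C) (ψ : C →ₐc[k] A) (hψ : Function.Injective ψ)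
    (J : Ideal A) [J.IsHopfIdeal k] (hJ : J = Ideal.map (ψ : C →+* A) (RingHom.ker (Bialgebra.counitAlgHom k C)))
    (hH : SGA3b.IsMultTypeConst k (A ⧸ J)) (hU : ∀ e : C, IsIdempotentElem e → e = 0 ∨ e = 1) :
    ∃! r : A →ₐc[k] C, r.comp ψ = BialgHom.id k C := by
  classical
  let K := AlgebraicClosure k
  haveI : Algebra.IsSeparable k K := Algebra.IsAlgebraic.isSeparable_of_perfectField
  haveI : IsGalois k K := ⟨⟩
  haveI : Algebra.FinitePresentation k C := Algebra.FinitePresentation.of_finiteType.1 ‹_›
  haveI : Algebra.Smooth k C := ⟨inferInstance, inferInstance⟩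
  haveI : IsReduced (K ⊗[k] C) := CAlgH.isReduced_of_smooth K (K ⊗[k] C)
  have hUK : HopfRep.IsUnipotent K (K ⊗[k] C) := isUnipotent_iff_baseChange.1 hC
  let ψK : K ⊗[k] C →ₐc[K] K ⊗[k] A := Bialgebra.TensorProduct.map (BialgHom.id K K) ψ
  have hψK : ∀ z, ψK z = Algebra.TensorProduct.map (AlgHom.id K K) (ψ : C →ₐ[k] A) z := fun z => by
    induction z using TensorProduct.induction_on with
    | zero => simp
    | add p q hp hq => simp only [map_add, hp, hq]
    | tmul p q => rfl
  have hψKi : Function.Injective ψK := fun x y h => by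
    rw [hψK, hψK] at h
    exact Module.Flat.lTensor_preserves_injective_linearMap (M := K) (ψ : C →ₐ[k] A).toLinearMap hψ h
  let πb : K ⊗[k] A →ₐc[K] K ⊗[k] (A ⧸ J) :=
    Bialgebra.TensorProduct.map (BialgHom.id K K) (Bialgebra.Quotient.mkBialgHom (R := k) J)
  have hπ : ∀ z, πb z = Algebra.TensorProduct.map (AlgHom.id K K) (Ideal.Quotient.mkₐ k J) z := fun z => by
    induction z using TensorProduct.induction_on with
    | zero => simp
    | add p q hp hq => simp only [map_add, hp, hq]
    | tmul p q => rfl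
  have hπs : Function.Surjective πb := fun z => by
    obtain ⟨y, rfl⟩ := LinearMap.lTensor_surjective K (g := (Ideal.Quotient.mkₐ k J).toLinearMap) Ideal.Quotient.mk_surjective z
    exact ⟨y, hπ y⟩
  have hker : RingHom.ker (πb : K ⊗[k] A →+* K ⊗[k] (A ⧸ J)) =
      Ideal.map (ψK : K ⊗[k] C →+* K ⊗[k] A) (RingHom.ker (Bialgebra.counitAlgHom K (K ⊗[k] C))) := by
    refine le_antisymm ?_ (Ideal.map_le_iff_le_comap.2 fun z hz => ?_)
    · have h1 : RingHom.ker (πb : K ⊗[k] A →+* K ⊗[k] (A ⧸ J)) =
          J.map (Algebra.TensorProduct.includeRight : A →ₐ[k] K ⊗[k] A) := by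
        conv_rhs => rw [← (Ideal.Quotient.mkₐ_ker k J : RingHom.ker (Ideal.Quotient.mkₐ k J) = J)]
        ext z
        rw [RingHom.mem_ker]
        show πb z = 0 ↔ _
        rw [hπ]
        exact SetLike.ext_iff.1 (Algebra.TensorProduct.lTensor_ker (A := K) (Ideal.Quotient.mkₐ k J)
          Ideal.Quotient.mk_surjective) z
      rw [h1, hJ, Ideal.map_le_iff_le_comap, Ideal.map_le_iff_le_comap]
      intro b hb
      refine Ideal.mem_comap.2 (Ideal.mem_comap.2 ?_)
      show (1 : K) ⊗ₜ[k] ψ b ∈ _
      have hb' : (1 : K) ⊗ₜ[k] b ∈ RingHom.ker (Bialgebra.counitAlgHom K (K ⊗[k] C)) := by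
        rw [RingHom.mem_ker, Bialgebra.counitAlgHom_apply, TensorProduct.counit_tmul,
          show CoalgebraStruct.counit (R := k) b = 0 from hb, zero_smul]
      exact Ideal.mem_map_of_mem (ψK : K ⊗[k] C →+* K ⊗[k] A) hb'
    · show πb (ψK z) = 0
      have h1 : ∀ z, πb (ψK z) = algebraMap K (K ⊗[k] (A ⧸ J)) (Bialgebra.counitAlgHom K (K ⊗[k] C) z) := fun z => by
        induction z using TensorProduct.induction_on with
        | zero => simp
        | add p q hp hq => simp only [map_add, hp, hq]
        | tmul p q =>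
          rw [hψK, hπ, Algebra.TensorProduct.map_tmul, Algebra.TensorProduct.map_tmul, Bialgebra.counitAlgHom_apply,
            TensorProduct.counit_tmul]
          have h2 : Ideal.Quotient.mkₐ k J ((ψ : C →ₐ[k] A) q) =
              algebraMap k (A ⧸ J) (CoalgebraStruct.counit (R := k) q) := by
            show Ideal.Quotient.mk J (ψ q) = Ideal.Quotient.mk J (algebraMap k A _)
            rw [Ideal.Quotient.eq, show algebraMap k A (CoalgebraStruct.counit (R := k) q) =
              ψ (algebraMap k C (CoalgebraStruct.counit (R := k) q)) from ((ψ : C →ₐ[k] A).commutes _).symm, ← map_sub, hJ]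
            refine Ideal.mem_map_of_mem _ ?_
            simp [RingHom.mem_ker]
          rw [h2, Algebra.algebraMap_eq_smul_one, TensorProduct.tmul_smul, Algebra.TensorProduct.algebraMap_apply,
            show CoalgebraStruct.counit (R := K) p = p from rfl, TensorProduct.smul_tmul', Algebra.algebraMap_self,
            RingHom.id_apply]
          rfl
      rw [h1, show Bialgebra.counitAlgHom K (K ⊗[k] C) z = 0 from hz, map_zero]
  haveI : Algebra.FiniteType k (A ⧸ J) := inferInstance
  obtain ⟨N, _, -, ⟨eN⟩⟩ := IsoTriv.exists_iso_sepClosed (R := k) (A := A ⧸ J) inferInstance hH K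
  let q : K ⊗[k] A →ₐc[K] MonoidAlgebra K N := (eN : K ⊗[k] (A ⧸ J) →ₐc[K] MonoidAlgebra K N).comp πb
  let d : Data K (K ⊗[k] A) (K ⊗[k] C) N :=
    { ψ := ψK
      inj := hψKi
      q := q
      surj := eN.surjective.comp hπs
      ker := by
        rw [← hker]
        ext z
        rw [RingHom.mem_ker, RingHom.mem_ker]
        exact map_eq_zero_iff _ eN.injective
      conn := fun e he => HopfUnip26.idempotent_trivial_baseChange k C hU K he }
  obtain ⟨rK, hrK⟩ := d.exists_retraction hUK
  let f : A →ₐ[k] K ⊗[k] C :=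
    ((rK : K ⊗[k] A →ₐ[K] K ⊗[k] C).restrictScalars k).comp Algebra.TensorProduct.includeRight
  have hfψ : ∀ c, f (ψ c) = (1 : K) ⊗ₜ[k] c := fun c => hrK ((1 : K) ⊗ₜ[k] c)
  have hrKε : ∀ z, CoalgebraStruct.counit (R := K) (rK z) = CoalgebraStruct.counit (R := K) z :=
    fun z => CoalgHomClass.counit_comp_apply rK z
  have key : ∀ (g : A →ₐ[k] K ⊗[k] C), (∀ c, g (ψ c) = (1 : K) ⊗ₜ[k] c) →
      (∀ a, CoalgebraStruct.counit (R := K) (g a) = algebraMap k K (CoalgebraStruct.counit (R := k) a)) → g = f := by
    intro g hg1 hg2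
    let G : K ⊗[k] A →ₐ[K] K ⊗[k] C := Algebra.TensorProduct.lift (Algebra.ofId K _) g fun _ _ => .all _ _
    have hG : ∀ a, G ((1 : K) ⊗ₜ[k] a) = g a := fun a => by simp [G, ← Algebra.TensorProduct.one_def]
    have hGψ : G.comp (ψK : K ⊗[k] C →ₐ[K] K ⊗[k] A) = AlgHom.id K _ :=
      Algebra.TensorProduct.ext (Subsingleton.elim _ _) (AlgHom.ext fun c => (hG (ψ c)).trans (hg1 c))
    have hGε : (Bialgebra.counitAlgHom K (K ⊗[k] C)).comp G = Bialgebra.counitAlgHom K (K ⊗[k] A) :=
      Algebra.TensorProduct.ext (Subsingleton.elim _ _) (AlgHom.ext fun a => by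
        show CoalgebraStruct.counit (R := K) (G ((1 : K) ⊗ₜ[k] a)) = CoalgebraStruct.counit (R := K) ((1 : K) ⊗ₜ[k] a)
        rw [hG, hg2, TensorProduct.counit_tmul, Algebra.algebraMap_eq_smul_one]
        rfl)
    have h := d.retraction_unique hUK G (rK : K ⊗[k] A →ₐ[K] K ⊗[k] C)
      (fun c => (DFunLike.congr_fun hGψ c).trans (hrK c).symm) (fun a => DFunLike.congr_fun hGε a) hrKε
    exact AlgHom.ext fun a => (hG a).symm.trans (DFunLike.congr_fun h ((1 : K) ⊗ₜ[k] a))
  have hfε : ∀ a, CoalgebraStruct.counit (R := K) (f a) = algebraMap k K (CoalgebraStruct.counit (R := k) a) := fun a => by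
    show CoalgebraStruct.counit (R := K) (rK ((1 : K) ⊗ₜ[k] a)) = _
    rw [hrKε, TensorProduct.counit_tmul, Algebra.algebraMap_eq_smul_one]
    rfl
  let b := Module.Basis.ofVectorSpace k C
  let bK := Algebra.TensorProduct.basis K b
  have hfix : ∀ (σ : K ≃ₐ[k] K) a i, σ (bK.repr (f a) i) = bK.repr (f a) i := by
    intro σ a i
    let σC : K ⊗[k] C →ₐ[k] K ⊗[k] C := Algebra.TensorProduct.map σ.toAlgHom (AlgHom.id k C)
    have h1 : ∀ w, bK.repr (σC w) i = σ (bK.repr w i) := fun w => by
      induction w using TensorProduct.induction_on with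
      | zero => simp
      | add p q hp hq => simp only [map_add, Finsupp.add_apply, hp, hq]
      | tmul p q => simp [σC, bK]
    have h2 : ∀ w, CoalgebraStruct.counit (R := K) (σC w) = σ (CoalgebraStruct.counit (R := K) w) := fun w => by
      induction w using TensorProduct.induction_on with
      | zero => simp
      | add p q hp hq => simp only [map_add, hp, hq]
      | tmul p q =>
        show CoalgebraStruct.counit (R := K) (σ p ⊗ₜ[k] q) = _
        rw [TensorProduct.counit_tmul, TensorProduct.counit_tmul]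
        exact (map_smul σ.toLinearMap _ p).symm
    have h3 := key (σC.comp f) (fun c => by
      show σC (f (ψ c)) = _
      rw [hfψ]
      simp [σC]) (fun a => by
      show CoalgebraStruct.counit (R := K) (σC (f a)) = _
      rw [h2, hfε, AlgEquiv.commutes])
    rw [← h1, show σC (f a) = f a from DFunLike.congr_fun h3 a]
  have hrange : ∀ a, f a ∈ (Algebra.TensorProduct.includeRight : C →ₐ[k] K ⊗[k] C).range := fun a => by
    rw [← bK.linearCombination_repr (f a), Finsupp.linearCombination_apply, Finsupp.sum]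
    refine Subalgebra.sum_mem _ fun i _ => ?_
    obtain ⟨c, hc⟩ := (InfiniteGalois.mem_range_algebraMap_iff_fixed _).2 fun σ => hfix σ a i
    refine ⟨c • b i, ?_⟩
    rw [← hc]
    show (1 : K) ⊗ₜ[k] (c • b i) = _
    rw [Algebra.TensorProduct.basis_apply, algebraMap_smul, TensorProduct.tmul_smul]
  have hinj : Function.Injective (Algebra.TensorProduct.includeRight : C →ₐ[k] K ⊗[k] C) :=
    Algebra.TensorProduct.includeRight_injective (R := k) (A := K) (B := C) (algebraMap k K).injective
  let e := AlgEquiv.ofInjective (Algebra.TensorProduct.includeRight : C →ₐ[k] K ⊗[k] C) hinj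
  let r : A →ₐ[k] C := e.symm.toAlgHom.comp (f.codRestrict _ hrange)
  have hr : ∀ a, rK ((1 : K) ⊗ₜ[k] a) = (1 : K) ⊗ₜ[k] r a := fun a =>
    (congrArg Subtype.val (e.apply_symm_apply ⟨f a, hrange a⟩)).symm
  have hcounit : ∀ a, CoalgebraStruct.counit (R := k) (r a) = CoalgebraStruct.counit (R := k) a := fun a => by
    refine (algebraMap k K).injective ?_
    have h := hfε a
    rw [show f a = (1 : K) ⊗ₜ[k] r a from hr a, TensorProduct.counit_tmul] at h
    rw [← h, Algebra.algebraMap_eq_smul_one]
    rfl
  have hinj1 : Function.Injective (fun z : C ⊗[k] C => (1 : K) ⊗ₜ[k] z) :=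
    Algebra.TensorProduct.includeRight_injective (R := k) (A := K) (B := C ⊗[k] C) (algebraMap k K).injective
  have hcomul : ∀ a, TensorProduct.map r.toLinearMap r.toLinearMap (CoalgebraStruct.comul (R := k) a) =
      CoalgebraStruct.comul (R := k) (r a) := fun a => by
    refine hinj1 ((TensorProduct.AlgebraTensorModule.distribBaseChange k K C C).injective ?_)
    rw [← IsoTriv.comul_one_tmul K (r a), ← hr, ← CoalgHomClass.map_comp_comul_apply rK, IsoTriv.comul_one_tmul]
    induction CoalgebraStruct.comul (R := k) a using TensorProduct.induction_on with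
    | zero => simp
    | add p q hp hq => simp only [map_add, TensorProduct.tmul_add, hp, hq]
    | tmul p q =>
      simp [TensorProduct.AlgebraTensorModule.distribBaseChange_tmul, hr]
  refine ⟨BialgHom.ofAlgHom r (AlgHom.ext hcounit) (AlgHom.ext hcomul),
    BialgHom.ext fun c => hinj ((hr (ψ c)).symm.trans (hfψ c)), fun r' hr' => BialgHom.ext fun a => hinj ?_⟩
  have h := key ((Algebra.TensorProduct.includeRight : C →ₐ[k] K ⊗[k] C).comp (r' : A →ₐ[k] C))
    (fun c => congrArg (fun z => (1 : K) ⊗ₜ[k] z) (DFunLike.congr_fun hr' c)) fun a => by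
      show CoalgebraStruct.counit (R := K) ((1 : K) ⊗ₜ[k] r' a) = _
      rw [TensorProduct.counit_tmul, CoalgHomClass.counit_comp_apply, Algebra.algebraMap_eq_smul_one]
      rfl
  exact (DFunLike.congr_fun h a).trans (hr a)

end Groth.Agent.MultByUnip26
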