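import Groth.Agent.MultByUnip26.GroupLike

/-! Group-like elements in every weight space. -/

set_option autoImplicit false
set_option linter.style.haveILetI false
set_option linter.unusedSectionVars false
set_option maxHeartbeats 800000
set_option maxSynthPendingDepth 3
set_option backward.isDefEq.respectTransparency.types false
universe u

open TensorProduct WithConv
open Groth.Agent.HopfQuot Groth.Agent.HopfLib

noncomputable section

namespace Groth.Agent.MultByUnip26

variable {k : Type u} [Field k] {A C : Type u} [CommRing A] [HopfAlgebra k A] [CommRing C] [HopfAlgebra k C]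
  {M : Type u} [CommGroup M]

/-- Stability under translation by the rational points. -/
def Stable (V : Submodule k A) : Prop := ∀ x : Pt k A k, ∀ a ∈ V, hitR x.ofConv.toLinearMap a ∈ V

/-- The representation on a stable subspace. -/
def T {V : Submodule k A} (hV : Stable V) : Pt k A k →* Module.End k V where
  toFun x := (hitR x.ofConv.toLinearMap).restrict (hV x)
  map_one' := LinearMap.ext fun v => Subtype.ext (hitR_toLinearMap_one (v : A))
  map_mul' x y := LinearMap.ext fun v => Subtype.ext (hitR_toLinearMap_mul x y (v : A))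

theorem coe_T {V : Submodule k A} (hV : Stable V) (x : Pt k A k) (v : V) :
    ((T hV x v : V) : A) = hitR x.ofConv.toLinearMap (v : A) := rfl

/-- Conjugation of endomorphisms by the points. -/
def Ad {V : Submodule k A} (hV : Stable V) : Pt k A k →* Module.End k (Module.End k V) where
  toFun x := LinearMap.mulLeft k (T hV x) ∘ₗ LinearMap.mulRight k (T hV x⁻¹)
  map_one' := LinearMap.ext fun f => by simp
  map_mul' x y := LinearMap.ext fun f => by
    simp [mul_inv_rev, map_mul, mul_assoc]

theorem Ad_apply {V : Submodule k A} (hV : Stable V) (x : Pt k A k) (f : Module.End k V) :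
    Ad hV x f = T hV x * (f * T hV x⁻¹) := rfl

namespace Data

variable (d : Data k A C M) [IsAlgClosed k] [Algebra.FiniteType k A] [Algebra.FiniteType k C] [IsReduced C]

/-- Matrix coefficients of conjugation descend to the quotient. -/
theorem exists_coeff {χ : M} {V : Submodule k A} [Module.Finite k V] (hV : Stable V) (hW : V ≤ d.W χ)
    (φ : V →ₗ[k] k) (v : V) :
    ∃ Φ : Module.End k V →ₗ[k] C, ∀ (x : Pt k A k) (f : Module.End k V), x.ofConv (d.ψ (Φ f)) = φ (Ad hV x f v) := by
  classical
  let b := Module.finBasis k V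
  obtain ⟨ωφ, hωφ⟩ := LinearMap.exists_extend φ
  have hex : ∀ i, ∃ ω : A →ₗ[k] k, ω ∘ₗ V.subtype = b.coord i := fun i => LinearMap.exists_extend (b.coord i)
  choose ω hω using hex
  let L : Module.End k V →ₗ[k] A := ∑ i,
    LinearMap.mulRight k (HopfAlgebraStruct.antipode k (hitL (ω i) (v : A))) ∘ₗ hitL ωφ ∘ₗ V.subtype ∘ₗ
      LinearMap.applyₗ (b i)
  have hL1 : ∀ f, L f ∈ (d.ψ : C →ₐ[k] A).range := fun f => by
    refine d.mem_range_of_mem_W_one ?_
    simp only [L, LinearMap.coe_sum, Finset.sum_apply]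
    refine Submodule.sum_mem _ fun i _ => ?_
    have h := d.mul_mem_W (d.hitL_mem_W (hW (f (b i)).2) ωφ) (d.antipode_mem_W (d.hitL_mem_W (hW v.2) (ω i)))
    rw [mul_inv_cancel] at h
    exact h
  let e := AlgEquiv.ofInjective (d.ψ : C →ₐ[k] A) d.inj
  refine ⟨e.symm.toLinearMap ∘ₗ L.codRestrict (d.ψ : C →ₐ[k] A).range.toSubmodule hL1, fun x f => ?_⟩
  rw [show d.ψ ((e.symm.toLinearMap ∘ₗ L.codRestrict (d.ψ : C →ₐ[k] A).range.toSubmodule hL1) f) = L f from
    congrArg Subtype.val (e.apply_symm_apply ⟨L f, hL1 f⟩)]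
  simp only [L, LinearMap.coe_sum, Finset.sum_apply, map_sum]
  conv_rhs => rw [Ad_apply, Module.End.mul_apply, Module.End.mul_apply, ← b.sum_repr (T hV x⁻¹ v)]
  rw [map_sum, map_sum, map_sum]
  refine Finset.sum_congr rfl fun i _ => ?_
  rw [map_smul, map_smul, map_smul, smul_eq_mul]
  show x.ofConv (hitL ωφ (f (b i) : A) * HopfAlgebraStruct.antipode k (hitL (ω i) (v : A))) = _
  rw [map_mul, ← inv_apply, ← AlgHom.toLinearMap_apply, ← AlgHom.toLinearMap_apply, apply_hitL, apply_hitL,
    ← coe_T hV, ← coe_T hV, mul_comm]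
  have e1 := LinearMap.congr_fun (hω i) (T hV x⁻¹ v)
  have e2 := LinearMap.congr_fun hωφ (T hV x (f (b i)))
  rw [LinearMap.comp_apply, Submodule.subtype_apply] at e1 e2
  rw [e1, e2]
  rfl

theorem isNilpotent_Ad_sub_one (hU : HopfRep.IsUnipotent k C) {χ : M} {V : Submodule k A} [Module.Finite k V]
    (hV : Stable V) (hW : V ≤ d.W χ) (y : Pt k A k) : IsNilpotent (Ad hV y - 1) := by
  classical
  let b := Module.finBasis k V
  have hΦ : ∀ l j, ∃ Φ : Module.End k V →ₗ[k] C,
      ∀ (x : Pt k A k) (f : Module.End k V), x.ofConv (d.ψ (Φ f)) = b.coord l (Ad hV x f (b j)) :=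
    fun l j => d.exists_coeff hV hW (b.coord l) (b j)
  choose Φ hΦ using hΦ
  let yC : Pt k C k := toConv (y.ofConv.comp (d.ψ : C →ₐ[k] A))
  have hint : ∀ l j (n : ℕ) f,
      Φ l j (((Ad hV y - 1) ^ n) f) = ((hitR yC.ofConv.toLinearMap - 1 : Module.End k C) ^ n) (Φ l j f) := by
    intro l j n
    induction n with
    | zero => intro f; simp
    | succ n ih =>
      intro f
      rw [pow_succ, pow_succ, Module.End.mul_apply, Module.End.mul_apply, ih]
      congr 1
      rw [LinearMap.sub_apply, LinearMap.sub_apply, Module.End.one_apply, Module.End.one_apply, map_sub]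
      congr 1
      refine sub_eq_zero.1 (d.eq_zero_of_pts fun x => ?_)
      rw [map_sub, map_sub, sub_eq_zero, hΦ]
      have h1 : d.ψ (hitR yC.ofConv.toLinearMap (Φ l j f)) = hitR y.ofConv.toLinearMap (d.ψ (Φ l j f)) :=
        (hitR_map d.ψ y.ofConv.toLinearMap (Φ l j f)).symm
      rw [h1, apply_hitR, hΦ, map_mul]
      rfl
  have hloc : ∀ f, ∃ n : ℕ, ((Ad hV y - 1) ^ n) f = 0 := by
    intro f
    have hn : ∀ p : Fin (Module.finrank k V) × Fin (Module.finrank k V),
        ∃ n, ((hitR yC.ofConv.toLinearMap - 1 : Module.End k C) ^ n) (Φ p.1 p.2 f) = 0 :=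
      fun p => exists_pow_hitR_eq_zero hU yC _
    choose n hn using hn
    refine ⟨Finset.univ.sup n, b.ext fun j => b.ext_elem fun l => ?_⟩
    have h := hΦ l j 1 (((Ad hV y - 1) ^ Finset.univ.sup n) f)
    rw [hint, Module.End.pow_map_zero_of_le (Finset.le_sup (f := n) (Finset.mem_univ (l, j))) (hn (l, j)), map_zero,
      map_zero, map_one] at h
    simpa using h.symm
  choose n hn using hloc
  let B := Module.finBasis k (Module.End k V)
  refine ⟨Finset.univ.sup fun i => n (B i), B.ext fun i => ?_⟩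
  exact Module.End.pow_map_zero_of_le (Finset.le_sup (f := fun i => n (B i)) (Finset.mem_univ i)) (hn (B i))

/-- Every weight space contains a group-like element. -/
theorem exists_groupLike (hU : HopfRep.IsUnipotent k C) (χ : M) :
    ∃ g : A, g ∈ d.W χ ∧ CoalgebraStruct.counit (R := k) g = 1 ∧
      CoalgebraStruct.comul (R := k) g = g ⊗ₜ[k] g := by
  classical
  haveI : IsDomain C := LieKolchin.isDomain k d.conn
  obtain ⟨b₀, hb₀, hb₀1⟩ := d.exists_mem_W χ
  have hne : b₀ ≠ 0 := fun h => by rw [h, map_zero] at hb₀1; exact zero_ne_one hb₀1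
  let P : ℕ → Prop := fun r => ∃ V : Submodule k A, Module.Finite k V ∧ V ≤ d.W χ ∧ V ≠ ⊥ ∧ Stable V ∧
    Module.finrank k V = r
  have hP : ∃ r, P r := by
    obtain ⟨B, hBf, hbB, hB⟩ := exists_finite_subcoalgebra (K := k) (C := A) {b₀} (Set.finite_singleton b₀)
    haveI := hBf
    exact ⟨_, B ⊓ d.W χ, Submodule.finiteDimensional_of_le inf_le_left, inf_le_right,
      fun h => hne ((Submodule.mem_bot k).1 (h ▸ Submodule.mem_inf.2 ⟨hbB rfl, hb₀⟩)),
      fun x a ha => ⟨((comul_mem_range_map_iff B).1 hB _ a ha.1).1, d.hitR_mem_W ha.2 _⟩, rfl⟩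
  obtain ⟨V, hVf, hVW, hV0, hV, hVr⟩ := Nat.find_spec hP
  haveI := hVf
  have hmin : ∀ V' : Submodule k A, V' ≤ V → V' ≠ ⊥ → Stable V' → V' = V := by
    intro V' hle h0 hs
    haveI := Submodule.finiteDimensional_of_le hle
    exact Submodule.eq_of_le_of_finrank_le hle (hVr ▸ Nat.find_min' hP ⟨V', inferInstance, hle.trans hVW, h0, hs, rfl⟩)
  haveI : Nontrivial V := Submodule.nontrivial_iff_ne_bot.2 hV0
  let S : Submodule k (Module.End k V) := Submodule.span k {(1 : Module.End k V)}
  have hS : S = ⊤ := by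
    by_contra hS
    haveI : Nontrivial (Module.End k V ⧸ S) := Submodule.Quotient.nontrivial_iff.2 hS
    have hfix : ∀ x, Ad hV x (1 : Module.End k V) = 1 := fun x => by
      rw [Ad_apply, one_mul, ← map_mul, mul_inv_cancel, map_one]
    have hmap : ∀ x, S ≤ S.comap (Ad hV x) := fun x => by
      rw [Submodule.span_le]
      rintro _ rfl
      show Ad hV x 1 ∈ S
      rw [hfix]
      exact Submodule.mem_span_singleton_self _
    let T' : Pt k A k →* Module.End k (Module.End k V ⧸ S) :=
      { toFun := fun x => S.mapQ S (Ad hV x) (hmap x)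
        map_one' := Submodule.linearMap_qext _ (LinearMap.ext fun f => by simp)
        map_mul' := fun x y => Submodule.linearMap_qext _ (LinearMap.ext fun f => by simp) }
    obtain ⟨w, hw, hwf⟩ := exists_fixed_of_unipotent_algClosed T' fun x => by
      obtain ⟨r, hr⟩ := d.isNilpotent_Ad_sub_one hU hV hVW x
      refine ⟨r, Submodule.linearMap_qext _ (LinearMap.ext fun f => ?_)⟩
      have hpow : ∀ (r : ℕ) (f : Module.End k V),
          ((T' x - 1) ^ r) (Submodule.Quotient.mk f) = Submodule.Quotient.mk (((Ad hV x - 1) ^ r) f) := by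
        intro r
        induction r with
        | zero => intro f; simp
        | succ r ih => intro f; rw [pow_succ, pow_succ, Module.End.mul_apply, Module.End.mul_apply, ← ih]; rfl
      show ((T' x - 1) ^ r) (Submodule.Quotient.mk f) = 0
      rw [hpow, hr]
      rfl
    obtain ⟨f, rfl⟩ := Submodule.Quotient.mk_surjective S w
    have hf : f ∉ S := fun h => hw ((Submodule.Quotient.mk_eq_zero S).2 h)
    have hlam : ∀ x, ∃ c : k, Ad hV x f = f + c • 1 := fun x => by
      have h : Submodule.Quotient.mk (p := S) (Ad hV x f) = Submodule.Quotient.mk f := hwf x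
      obtain ⟨c, hc⟩ := Submodule.mem_span_singleton.1 ((Submodule.Quotient.eq S).1 h)
      exact ⟨c, by rw [hc]; abel⟩
    choose lam hlam using hlam
    have hcomm : ∀ x, T hV x * f = (f + lam x • 1) * T hV x := fun x => by
      rw [← hlam x, Ad_apply, mul_assoc, mul_assoc, ← map_mul, inv_mul_cancel, map_one, mul_one]
    obtain ⟨μ, hμ⟩ := Module.End.exists_eigenvalue f
    obtain ⟨v, hv⟩ := hμ.exists_hasEigenvector
    have heig : ∀ x, f.HasEigenvalue (μ - lam x) := fun x => by
      refine Module.End.hasEigenvalue_of_hasEigenvector (x := T hV x v) ⟨?_, fun h => hv.2 ?_⟩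
      · rw [Module.End.mem_eigenspace_iff]
        have h := LinearMap.congr_fun (hcomm x) v
        simp only [Module.End.mul_apply, LinearMap.add_apply, LinearMap.smul_apply, Module.End.one_apply,
          hv.apply_eq_smul, map_smul] at h
        rw [sub_smul, h]
        abel
      · have h' := congrArg (T hV x⁻¹) h
        rwa [← Module.End.mul_apply, ← map_mul, inv_mul_cancel, map_one, map_zero, Module.End.one_apply] at h'
    obtain ⟨φ, hφ⟩ : ∃ φ : V →ₗ[k] k, φ v = 1 := by
      obtain ⟨φ, hφ⟩ := Module.Projective.exists_dual_ne_zero k hv.2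
      exact ⟨(φ v)⁻¹ • φ, by rw [LinearMap.smul_apply, smul_eq_mul, inv_mul_cancel₀ hφ]⟩
    obtain ⟨Φ, hΦ⟩ := d.exists_coeff hV hVW φ v
    have hval : ∀ x : Pt k A k, x.ofConv (d.ψ (Φ f)) = μ + lam x := fun x => by
      rw [hΦ, hlam, LinearMap.add_apply, LinearMap.smul_apply, Module.End.one_apply, hv.apply_eq_smul, map_add,
        map_smul, map_smul, hφ, smul_eq_mul, smul_eq_mul, mul_one, mul_one]
    let E := (Module.End.finite_hasEigenvalue f).toFinset
    have hprod : (∏ s ∈ E, (Φ f - algebraMap k C (2 * μ - s))) = 0 := d.eq_zero_of_pts fun x => by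
      rw [map_prod, map_prod]
      refine Finset.prod_eq_zero (Set.Finite.mem_toFinset _ |>.2 (heig x)) ?_
      rw [map_sub, map_sub, AlgHomClass.commutes, AlgHom.commutes, hval, Algebra.algebraMap_self, RingHom.id_apply]
      ring
    obtain ⟨s, -, hs⟩ := Finset.prod_eq_zero_iff.1 hprod
    rw [sub_eq_zero] at hs
    have hlam0 : ∀ x, lam x = 0 := by
      intro x
      have h1 := hval x
      have h2 := hval 1
      rw [hs, AlgHomClass.commutes, AlgHom.commutes] at h1 h2
      have h3 := hlam 1
      rw [map_one, Module.End.one_apply, left_eq_add, smul_eq_zero] at h3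
      rw [h3.resolve_right one_ne_zero, add_zero] at h2
      rw [h2] at h1
      exact left_eq_add.1 h1
    have hker : Submodule.map V.subtype (f.eigenspace μ) = V := by
      refine hmin _ (Submodule.map_subtype_le _ _) ?_ ?_
      · intro h
        have := h ▸ Submodule.mem_map_of_mem (f := V.subtype) hv.1
        rw [Submodule.mem_bot] at this
        exact hv.2 (Subtype.ext this)
      · rintro x _ ⟨a, ha, rfl⟩
        refine ⟨T hV x a, ?_, rfl⟩
        rw [SetLike.mem_coe, Module.End.mem_eigenspace_iff] at ha ⊢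
        have h := LinearMap.congr_fun (hcomm x) a
        rw [hlam0, zero_smul, add_zero, Module.End.mul_apply, Module.End.mul_apply, ha, map_smul] at h
        exact h.symm
    refine hf (Submodule.mem_span_singleton.2 ⟨μ, LinearMap.ext fun a => ?_⟩)
    obtain ⟨a', ha', e⟩ : (a : A) ∈ Submodule.map V.subtype (f.eigenspace μ) := hker.symm ▸ a.2
    rw [show a = a' from Subtype.ext e.symm, LinearMap.smul_apply, Module.End.one_apply,
      Module.End.mem_eigenspace_iff.1 ha']
  obtain ⟨v, hv⟩ := exists_ne (0 : V)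
  obtain ⟨φ, hφ⟩ := Module.Projective.exists_dual_ne_zero k hv
  have hline : ∀ w : V, ∃ c : k, c • v = w := fun w => by
    obtain ⟨c, hc⟩ := Submodule.mem_span_singleton.1
      (show ((φ v)⁻¹ • φ).smulRight w ∈ S from hS ▸ Submodule.mem_top)
    refine ⟨c, ?_⟩
    have h := LinearMap.congr_fun hc v
    rwa [LinearMap.smul_apply, Module.End.one_apply, LinearMap.smulRight_apply, LinearMap.smul_apply, smul_eq_mul,
      inv_mul_cancel₀ hφ, one_smul] at h
  have hchar : ∀ x : Pt k A k, ∃ c : k, hitR x.ofConv.toLinearMap (v : A) = c • (v : A) := fun x => by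
    obtain ⟨c, hc⟩ := hline (T hV x v)
    exact ⟨c, (congrArg Subtype.val hc).symm⟩
  choose c hc using hchar
  have hev : ∀ x : Pt k A k, x.ofConv (v : A) = c x * CoalgebraStruct.counit (R := k) (v : A) := fun x => by
    rw [← AlgHom.toLinearMap_apply, ← counit_hitR, hc, map_smul, smul_eq_mul]
  have hv1 : CoalgebraStruct.counit (R := k) (v : A) ≠ 0 := fun h => hv (Subtype.ext
    (d.eq_zero_of_mem_W (hVW v.2) fun x => by rw [hev, h, mul_zero]))
  let g : A := (CoalgebraStruct.counit (R := k) (v : A))⁻¹ • (v : A)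
  have hg1 : CoalgebraStruct.counit (R := k) g = 1 := by rw [map_smul, smul_eq_mul, inv_mul_cancel₀ hv1]
  have hgW : g ∈ d.W χ := Submodule.smul_mem _ _ (hVW v.2)
  have hgx : ∀ x : Pt k A k, hitR x.ofConv.toLinearMap g = x.ofConv g • g := fun x => by
    rw [map_smul, map_smul, hc, hev, smul_smul, smul_smul, smul_eq_mul]
    congr 1
    field_simp
  refine ⟨g, hgW, hg1, eq_of_forall_sliceL_eq fun ω => sub_eq_zero.1 (d.eq_zero_of_mem_W (χ := χ) ?_ fun x => ?_)⟩
  · rw [sliceL_tmul]
    exact sub_mem (d.hitL_mem_W hgW ω) (Submodule.smul_mem _ _ hgW)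
  · rw [map_sub, sub_eq_zero, sliceL_tmul]
    show x.ofConv.toLinearMap (hitL ω g) = x.ofConv.toLinearMap (ω g • g)
    rw [apply_hitL, hgx, map_smul ω, AlgHom.toLinearMap_apply]
    simp only [g, map_smul, smul_eq_mul]
    ring

end Data

end Groth.Agent.MultByUnip26
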