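import Groth.Agent.MultByUnip26.Rep

/-! The unique retraction of an extension of a connected unipotent group by a diagonalisable group. -/

set_option autoImplicit false
set_option linter.style.haveILetI false
set_option linter.unusedSectionVars false
set_option maxHeartbeats 800000
set_option maxSynthPendingDepth 3
set_option backward.isDefEq.respectTransparency.types false
universe u

open TensorProduct WithConv
open Groth.Agent.HopfQuot Groth.Agent.HopfLib

noncomputable section

namespace Groth.Agent.MultByUnip26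

variable {k : Type u} [Field k] {A C : Type u} [CommRing A] [HopfAlgebra k A] [CommRing C] [HopfAlgebra k C]
  {M : Type u} [CommGroup M]

theorem antipode_mul_self {g : A} (h1 : CoalgebraStruct.counit (R := k) g = 1)
    (h2 : CoalgebraStruct.comul (R := k) g = g ⊗ₜ[k] g) : HopfAlgebraStruct.antipode k g * g = 1 := by
  have h := HopfAlgebra.mul_antipode_rTensor_comul_apply (R := k) g
  rw [show Coalgebra.comul (R := k) g = g ⊗ₜ[k] g from h2, show Coalgebra.counit (R := k) g = 1 from h1, map_one] at h
  simpa using h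

/-- A point through a bialgebra map is multiplicative on group-like elements. -/
theorem factor_mul_eq (q : A →ₐc[k] MonoidAlgebra k M) {R : Type u} [CommRing R] [Algebra k R]
    (F f g : MonoidAlgebra k M →ₐ[k] R)
    (h : ∀ m, F (MonoidAlgebra.single m 1) = f (MonoidAlgebra.single m 1) * g (MonoidAlgebra.single m 1)) :
    (toConv (F.comp (q : A →ₐ[k] MonoidAlgebra k M)) : Pt k A R) =
      toConv (f.comp (q : A →ₐ[k] MonoidAlgebra k M)) * toConv (g.comp (q : A →ₐ[k] MonoidAlgebra k M)) := by
  have e : F = (Algebra.TensorProduct.lift f g (fun _ _ => .all ..)).comp (Bialgebra.comulAlgHom k _) :=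
    MonoidAlgebra.algHom_ext (fun m => by
      rw [AlgHom.comp_apply, Bialgebra.comulAlgHom_apply, comul_single_one, Algebra.TensorProduct.lift_tmul, h])
      (Subsingleton.elim _ _)
  refine WithConv.ext (AlgHom.ext fun a => ?_)
  rw [mul_factor_apply, e]
  rfl

namespace Data

variable (d : Data k A C M) [IsAlgClosed k] [Algebra.FiniteType k A] [Algebra.FiniteType k C] [IsReduced C]

theorem groupLike_unique (hU : HopfRep.IsUnipotent k C) {χ : M} {g g' : A} (hg : g ∈ d.W χ) (hg' : g' ∈ d.W χ)
    (h1 : CoalgebraStruct.counit (R := k) g = 1) (h1' : CoalgebraStruct.counit (R := k) g' = 1)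
    (h2 : CoalgebraStruct.comul (R := k) g = g ⊗ₜ[k] g) (h2' : CoalgebraStruct.comul (R := k) g' = g' ⊗ₜ[k] g') :
    g = g' := by
  obtain ⟨c, hc⟩ := d.mem_range_of_mem_W_one (mul_inv_cancel χ ▸ d.mul_mem_W hg (d.antipode_mem_W hg'))
  obtain ⟨c', hc'⟩ := d.mem_range_of_mem_W_one (mul_inv_cancel χ ▸ d.mul_mem_W hg' (d.antipode_mem_W hg))
  have hcc : c * c' = 1 := d.inj (by
    show d.ψ (c * c') = d.ψ 1
    rw [map_mul, map_one, show d.ψ c = _ from hc, show d.ψ c' = _ from hc']
    linear_combination (HopfAlgebraStruct.antipode k g' * g') * antipode_mul_self h1 h2 + antipode_mul_self h1' h2')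
  have hu := HopfUnip26.unit_eq_counit d.conn hU (IsUnit.of_mul_eq_one c' hcc)
  have hε : Bialgebra.counitAlgHom k C c = 1 := by
    show CoalgebraStruct.counit (R := k) c = 1
    rw [← CoalgHomClass.counit_comp_apply d.ψ c, show d.ψ c = _ from hc, Bialgebra.counit_mul, h1, one_mul]
    have h := congrArg (CoalgebraStruct.counit (R := k)) (antipode_mul_self h1' h2')
    rwa [Bialgebra.counit_mul, h1', mul_one, Bialgebra.counit_one] at h
  rw [hε, map_one] at hu
  rw [hu, map_one] at hc
  linear_combination -g' * hc - g * antipode_mul_self h1' h2'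

/-- The character attached to a character of the diagonalisable subgroup. -/
def gl (hU : HopfRep.IsUnipotent k C) (χ : M) : A := Classical.choose (d.exists_groupLike hU χ)

theorem gl_spec (hU : HopfRep.IsUnipotent k C) (χ : M) :
    d.gl hU χ ∈ d.W χ ∧ CoalgebraStruct.counit (R := k) (d.gl hU χ) = 1 ∧
      CoalgebraStruct.comul (R := k) (d.gl hU χ) = d.gl hU χ ⊗ₜ[k] d.gl hU χ :=
  Classical.choose_spec (d.exists_groupLike hU χ)

/-- The characters of the extension form a group. -/
def glHom (hU : HopfRep.IsUnipotent k C) : M →* A where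
  toFun := d.gl hU
  map_one' := d.groupLike_unique hU (d.gl_spec hU 1).1 d.one_mem_W (d.gl_spec hU 1).2.1 Bialgebra.counit_one
    (d.gl_spec hU 1).2.2 Bialgebra.comul_one
  map_mul' χ χ' := d.groupLike_unique hU (d.gl_spec hU _).1 (d.mul_mem_W (d.gl_spec hU χ).1 (d.gl_spec hU χ').1)
    (d.gl_spec hU _).2.1 (by rw [Bialgebra.counit_mul, (d.gl_spec hU χ).2.1, (d.gl_spec hU χ').2.1, one_mul])
    (d.gl_spec hU _).2.2 (by
      rw [Bialgebra.comul_mul, (d.gl_spec hU χ).2.2, (d.gl_spec hU χ').2.2, Algebra.TensorProduct.tmul_mul_tmul])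

/-- Two retractions compatible with the counits agree. -/
theorem retraction_unique (hU : HopfRep.IsUnipotent k C) (f f' : A →ₐ[k] C) (h : ∀ c, f (d.ψ c) = f' (d.ψ c))
    (hε : ∀ a, CoalgebraStruct.counit (R := k) (f a) = CoalgebraStruct.counit (R := k) a)
    (hε' : ∀ a, CoalgebraStruct.counit (R := k) (f' a) = CoalgebraStruct.counit (R := k) a) : f = f' := by
  let res : Pt k A C →* Pt k C C :=
    MonoidHom.mk' (fun p => toConv (p.ofConv.comp (d.ψ : C →ₐ[k] A))) fun p q => WithConv.ext (AlgHom.ext fun b => by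
      show (p * q).ofConv (d.ψ b) = _
      rw [mul_apply, mul_apply, ← CoalgHomClass.map_comp_comul_apply d.ψ b]
      induction CoalgebraStruct.comul (R := k) b using TensorProduct.induction_on with
      | zero => simp
      | add x y hx hy => simp only [map_add, hx, hy]
      | tmul x y => simp)
  have hres : res (toConv f * (toConv f')⁻¹) = 1 := by
    rw [map_mul, map_inv, mul_inv_eq_one]
    exact WithConv.ext (AlgHom.ext fun b => h b)
  obtain ⟨φ, hφ⟩ := d.kills_iff (toConv f * (toConv f')⁻¹) fun c => by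
    have := congrArg (fun p : Pt k C C => p.ofConv c) hres
    rw [one_apply] at this
    exact this
  let εC := Bialgebra.counitAlgHom k C
  have hpush : push εC (toConv f * (toConv f')⁻¹) = 1 := by
    rw [map_mul, map_inv, mul_inv_eq_one]
    exact WithConv.ext (AlgHom.ext fun a => (hε a).trans (hε' a).symm)
  have hφ1 : φ = (Algebra.ofId k C).comp (Bialgebra.counitAlgHom k (MonoidAlgebra k M)) := by
    refine MonoidAlgebra.algHom_ext (fun m => ?_) (Subsingleton.elim _ _)
    have hu : IsUnit (φ (MonoidAlgebra.single m 1)) := (IsUnit.of_mul_eq_one (MonoidAlgebra.single m⁻¹ (1 : k)) (by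
      rw [MonoidAlgebra.single_mul_single, mul_inv_cancel, one_mul]; rfl)).map φ
    obtain ⟨a, ha⟩ := d.surj (MonoidAlgebra.single m 1)
    have h1 : εC (φ (d.q a)) = CoalgebraStruct.counit (R := k) a := by
      have := congrArg (fun p : Pt k A k => p.ofConv a) hpush
      rw [hφ, one_apply, Algebra.algebraMap_self, RingHom.id_apply] at this
      exact this
    rw [HopfUnip26.unit_eq_counit d.conn hU hu, ← ha]
    show algebraMap k C (εC (φ (d.q a))) = algebraMap k C (CoalgebraStruct.counit (R := k) (d.q a))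
    rw [h1, CoalgHomClass.counit_comp_apply]
  have h1 : toConv f * (toConv f')⁻¹ = 1 := by
    rw [hφ, hφ1]
    refine WithConv.ext (AlgHom.ext fun a => ?_)
    rw [one_apply]
    show algebraMap k C (CoalgebraStruct.counit (R := k) (d.q a)) = _
    rw [CoalgHomClass.counit_comp_apply]
  exact congrArg WithConv.ofConv (mul_inv_eq_one.1 h1)

/-- The retraction. -/
theorem exists_retraction (hU : HopfRep.IsUnipotent k C) : ∃ r : A →ₐc[k] C, ∀ c, r (d.ψ c) = c := by
  classical
  let q' : A →ₐ[k] MonoidAlgebra k M := (d.q : A →ₐ[k] MonoidAlgebra k M)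
  let τ : MonoidAlgebra k M →ₐ[k] A := MonoidAlgebra.lift k A M ((d.glHom hU).comp invMonoidHom)
  have hτ : ∀ m, τ (MonoidAlgebra.single m 1) = d.gl hU m⁻¹ := fun m => by simp [τ]; rfl
  have hτ' : (Bialgebra.counitAlgHom k A).comp τ = Bialgebra.counitAlgHom k (MonoidAlgebra k M) :=
    MonoidAlgebra.algHom_ext (fun m => by
      rw [AlgHom.comp_apply, hτ]
      exact (d.gl_spec hU m⁻¹).2.1.trans (by simp))
      (Subsingleton.elim _ _)
  let ω : Pt k A A := toConv (τ.comp q')
  let R : A →ₐ[k] A := (idPt k A * ω).ofConv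
  have hRψ : ∀ c, R (d.ψ c) = d.ψ c := fun c => by
    show (idPt k A * ω).ofConv (d.ψ c) = _
    rw [mul_apply, ← CoalgHomClass.map_comp_comul_apply d.ψ c]
    have h : ∀ t : C ⊗[k] C, Algebra.TensorProduct.lift (idPt k A).ofConv ω.ofConv (fun _ _ => .all ..)
        (TensorProduct.map (d.ψ : C →ₗ[k] A) (d.ψ : C →ₗ[k] A) t) =
        d.ψ (TensorProduct.rid k C (LinearMap.lTensor C (Coalgebra.counit (R := k)) t)) := fun t => by
      induction t using TensorProduct.induction_on with
      | zero => simp
      | add x y hx hy => simp only [map_add, hx, hy]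
      | tmul x y =>
        rw [TensorProduct.map_tmul, Algebra.TensorProduct.lift_tmul, LinearMap.lTensor_tmul, TensorProduct.rid_tmul,
          map_smul]
        show d.ψ x * τ (d.q (d.ψ y)) = _
        rw [d.q_ψ, AlgHom.commutes, Algebra.smul_def, mul_comm]
    refine (h _).trans ?_
    rw [Coalgebra.lTensor_counit_comul, TensorProduct.rid_tmul, one_smul]
  set gL : Pt k A (A ⊗[k] MonoidAlgebra k M) := push Algebra.TensorProduct.includeLeft (idPt k A) with hgL
  set n : Pt k A (A ⊗[k] MonoidAlgebra k M) :=
    push Algebra.TensorProduct.includeRight (toConv q') with hn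
  have hδid : push d.δ (idPt k A) = gL * n := rfl
  let iR : MonoidAlgebra k M →ₐ[k] A ⊗[k] MonoidAlgebra k M := Algebra.TensorProduct.includeRight
  let S' : MonoidAlgebra k M →ₐ[k] A ⊗[k] MonoidAlgebra k M := iR.comp (HopfAlgebra.antipodeAlgHom k _)
  let ωL : Pt k A (A ⊗[k] MonoidAlgebra k M) :=
    toConv (((Algebra.TensorProduct.includeLeft : A →ₐ[k] A ⊗[k] MonoidAlgebra k M).comp τ).comp q')
  have hδω : push d.δ ω = toConv (S'.comp q') * ωL := by
    refine (factor_mul_eq d.q (d.δ.comp τ) S' _ fun m => ?_)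
    rw [AlgHom.comp_apply, AlgHom.comp_apply, AlgHom.comp_apply, hτ, d.mem_W.1 (d.gl_spec hU m⁻¹).1]
    show _ = ((1 : A) ⊗ₜ[k] HopfAlgebraStruct.antipode k (MonoidAlgebra.single m (1 : k))) *
      (d.gl hU m⁻¹ ⊗ₜ[k] (1 : MonoidAlgebra k M))
    rw [Algebra.TensorProduct.tmul_mul_tmul, one_mul, mul_one]
    simp
  have hnS : n * toConv (S'.comp q') = 1 := by
    have h := factor_mul_eq d.q ((Algebra.ofId k _).comp (Bialgebra.counitAlgHom k (MonoidAlgebra k M))) iR S' fun m => by
      show algebraMap k (A ⊗[k] MonoidAlgebra k M) (CoalgebraStruct.counit (R := k) (MonoidAlgebra.single m (1 : k))) =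
        ((1 : A) ⊗ₜ[k] MonoidAlgebra.single m (1 : k)) *
          ((1 : A) ⊗ₜ[k] HopfAlgebraStruct.antipode k (MonoidAlgebra.single m (1 : k)))
      rw [Algebra.TensorProduct.tmul_mul_tmul, one_mul]
      simp [MonoidAlgebra.one_def, Algebra.TensorProduct.one_def]
    refine h.symm.trans (WithConv.ext (AlgHom.ext fun a => ?_))
    rw [one_apply]
    show algebraMap k _ (CoalgebraStruct.counit (R := k) (d.q a)) = _
    rw [CoalgHomClass.counit_comp_apply]
  have hδR : ∀ a, d.δ (R a) = R a ⊗ₜ[k] (1 : MonoidAlgebra k M) := by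
    have h : push d.δ (idPt k A * ω) = push Algebra.TensorProduct.includeLeft (idPt k A * ω) := by
      rw [map_mul, map_mul, hδid, hδω, mul_assoc, ← mul_assoc n, hnS, one_mul]
      rfl
    exact fun a => congrArg (fun p : Pt k A (A ⊗[k] MonoidAlgebra k M) => p.ofConv a) h
  have hεR : ∀ a, CoalgebraStruct.counit (R := k) (R a) = CoalgebraStruct.counit (R := k) a := by
    have h1 : push (Bialgebra.counitAlgHom k A) (idPt k A) = 1 := WithConv.ext (AlgHom.ext fun a => by
      rw [one_apply, Algebra.algebraMap_self, RingHom.id_apply]; rfl)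
    have h2 : push (Bialgebra.counitAlgHom k A) ω = 1 := WithConv.ext (AlgHom.ext fun a => by
      rw [one_apply, Algebra.algebraMap_self, RingHom.id_apply]
      show ((Bialgebra.counitAlgHom k A).comp τ) (d.q a) = _
      rw [hτ']
      exact CoalgHomClass.counit_comp_apply d.q a)
    have h : push (Bialgebra.counitAlgHom k A) (idPt k A * ω) = 1 := by rw [map_mul, h1, h2, one_mul]
    intro a
    have := congrArg (fun p : Pt k A k => p.ofConv a) h
    rwa [one_apply] at this
  let i1 : A →ₐ[k] A ⊗[k] A := Algebra.TensorProduct.includeLeft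
  let i2 : A →ₐ[k] A ⊗[k] A := Algebra.TensorProduct.includeRight
  have hΔR : ∀ a, TensorProduct.map R.toLinearMap R.toLinearMap (CoalgebraStruct.comul (R := k) a) =
      CoalgebraStruct.comul (R := k) (R a) := by
    have h1 : push (Bialgebra.comulAlgHom k A) (idPt k A) = push i1 (idPt k A) * push i2 (idPt k A) :=
      WithConv.ext (AlgHom.ext fun a => by
        rw [mul_apply]
        show CoalgebraStruct.comul (R := k) a = _
        induction CoalgebraStruct.comul (R := k) a using TensorProduct.induction_on with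
        | zero => simp
        | add x y hx hy => rw [map_add, ← hx, ← hy]
        | tmul x y => simp [i1, i2])
    have h2 : push (Bialgebra.comulAlgHom k A) ω = push i1 ω * push i2 ω :=
      factor_mul_eq d.q ((Bialgebra.comulAlgHom k A).comp τ) (i1.comp τ) (i2.comp τ) fun m => by
        rw [AlgHom.comp_apply, AlgHom.comp_apply, AlgHom.comp_apply, hτ, Bialgebra.comulAlgHom_apply,
          (d.gl_spec hU m⁻¹).2.2]
        simp [i1, i2]
    have h3 : push i2 (idPt k A) * push i1 ω = push i1 ω * push i2 (idPt k A) := by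
      have h := congrArg (push (Algebra.TensorProduct.lift i2 (i1.comp τ) fun _ _ => .all ..)) d.central
      rw [map_mul, map_mul] at h
      refine Eq.trans (Eq.trans ?_ h) ?_ <;> congr 1 <;>
        exact WithConv.ext (AlgHom.ext fun a => by simp [ω, q', i1, i2])
    have h : push (Bialgebra.comulAlgHom k A) (idPt k A * ω) = push i1 (idPt k A * ω) * push i2 (idPt k A * ω) := by
      rw [map_mul, map_mul, map_mul, h1, h2, mul_assoc, ← mul_assoc (push i2 (idPt k A)), h3]
      group
    intro a
    refine Eq.trans ?_ (congrArg (fun p : Pt k A (A ⊗[k] A) => p.ofConv a) h).symm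
    rw [mul_apply]
    induction CoalgebraStruct.comul (R := k) a using TensorProduct.induction_on with
    | zero => simp
    | add x y hx hy => rw [map_add, map_add, hx, hy]
    | tmul x y => simp [i1, i2, R, ← map_mul]
  let e := AlgEquiv.ofInjective (d.ψ : C →ₐ[k] A) d.inj
  let r : A →ₐ[k] C := e.symm.toAlgHom.comp (R.codRestrict _ fun a => d.mem_range_of_δ (hδR a))
  have hr : ∀ a, d.ψ (r a) = R a := fun a => congrArg Subtype.val (e.apply_symm_apply ⟨R a, _⟩)
  refine ⟨BialgHom.ofAlgHom r (AlgHom.ext fun a => ?_) (AlgHom.ext fun a => ?_), fun c => d.inj ((hr _).trans (hRψ c))⟩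
  · show CoalgebraStruct.counit (R := k) (r a) = _
    rw [← CoalgHomClass.counit_comp_apply d.ψ, hr, hεR]
    rfl
  · have hinj : Function.Injective (TensorProduct.map (d.ψ : C →ₗ[k] A) (d.ψ : C →ₗ[k] A)) := by
      rw [← LinearMap.lTensor_comp_rTensor, LinearMap.coe_comp]
      exact (Module.Flat.lTensor_preserves_injective_linearMap _ d.inj).comp
        (Module.Flat.rTensor_preserves_injective_linearMap _ d.inj)
    refine hinj ?_
    refine Eq.trans ?_ ((hΔR a).trans (by rw [← hr]; exact (CoalgHomClass.map_comp_comul_apply d.ψ (r a)).symm))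
    show TensorProduct.map (d.ψ : C →ₗ[k] A) (d.ψ : C →ₗ[k] A)
      (Algebra.TensorProduct.map r r (CoalgebraStruct.comul (R := k) a)) = _
    induction CoalgebraStruct.comul (R := k) a using TensorProduct.induction_on with
    | zero => simp
    | add x y hx hy => simp only [map_add, hx, hy]
    | tmul x y =>
      show d.ψ (r x) ⊗ₜ[k] d.ψ (r y) = _
      rw [hr, hr]; rfl

end Data

end Groth.Agent.MultByUnip26
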